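import Groth.Agent.L13.DecBound.Basic
import Mathlib.Data.Fintype.Sort

/-!
# Splitting weighted filtrations into good and bad steps
-/

set_option autoImplicit false
set_option linter.style.haveILetI false
set_option linter.unusedSectionVars false

open CategoryTheory CategoryTheory.Limits

noncomputable section

namespace Groth.L11.DecBd

/-- If semistability holds and each bad step is very negative, so is the sectional expression. -/
theorem sum_add_mu_le {C : Type*} [Category C] {E : C} (ok : Subobject E → Prop) (αE : ℤ) (α : Subobject E → ℤ)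
    (dE : ℚ) (d : Subobject E → ℚ) {a : ℕ} (N : DecSh.NV E a) {δ η : ℚ} (hδ : 0 ≤ δ)
    (hss : DecSh.IsDeltaSS ok αE α dE d N δ) (𝓕 : DecSh.WFilt E) (hok : ∀ i, ok (𝓕.piece i))
    (hα : ∀ i, 1 ≤ α (𝓕.piece i)) (hle : ∀ i, α (𝓕.piece i) ≤ αE) (v : Fin 𝓕.t → ℚ) (good : Fin 𝓕.t → Prop)
    [DecidablePred good]
    (hgood : ∀ i, good i → v i ≤ (αE : ℚ) * d (𝓕.piece i) - (α (𝓕.piece i) : ℚ) * dE)
    (hbad : ∀ i, ¬ good i → v i + δ * ((a : ℚ) * ((αE : ℚ) - 1)) ≤ -η) :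
    (∑ i, 𝓕.wt i * v i) + δ * 𝓕.mu αE α N ≤ -η * ∑ i ∈ Finset.univ.filter (fun i => ¬ good i), 𝓕.wt i := by
  classical
  let S := Finset.univ.filter good
  let B := Finset.univ.filter (fun i => ¬ good i)
  have hB : ∑ i ∈ B, 𝓕.wt i * v i ≤ (-η - δ * ((a : ℚ) * ((αE : ℚ) - 1))) * ∑ i ∈ B, 𝓕.wt i := by
    rw [Finset.mul_sum]
    refine Finset.sum_le_sum fun i hi => ?_
    have := hbad i (Finset.mem_filter.1 hi).2
    have := (𝓕.wt_pos i).le
    nlinarith
  have hsplit : ∑ i, 𝓕.wt i * v i = (∑ i ∈ S, 𝓕.wt i * v i) + ∑ i ∈ B, 𝓕.wt i * v i :=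
    (Finset.sum_filter_add_sum_filter_not _ _ _).symm
  have hw : ∑ i, 𝓕.wt i = (∑ i ∈ S, 𝓕.wt i) + ∑ i ∈ B, 𝓕.wt i :=
    (Finset.sum_filter_add_sum_filter_not _ _ _).symm
  rw [hsplit]
  change _ ≤ -η * ∑ i ∈ B, 𝓕.wt i
  rcases Nat.eq_zero_or_pos S.card with h0 | hpos
  · rw [Finset.card_eq_zero] at h0
    rw [h0, Finset.sum_empty, zero_add] at hw
    rw [h0, Finset.sum_empty, zero_add]
    obtain ⟨I, -, hI⟩ := 𝓕.exists_gam_eq_mu αE α N
    have hg := (abs_le.1 (Groth.L13.DecBound.abs_gam_le 𝓕 αE α hα hle I)).2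
    rw [hI, hw] at hg
    have := mul_le_mul_of_nonneg_left hg hδ
    nlinarith
  · let e := S.orderEmbOfFin rfl
    let 𝓖 : DecSh.WFilt E :=
      { t := S.card
        t_pos := hpos
        piece := fun j => 𝓕.piece (e j)
        wt := fun j => 𝓕.wt (e j)
        piece_strictMono := fun a b h => 𝓕.piece_strictMono (e.strictMono h)
        piece_ne_top := fun j => 𝓕.piece_ne_top _
        piece_nonzero := fun j => 𝓕.piece_nonzero _
        wt_pos := fun j => 𝓕.wt_pos _ }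
    have hμ := Groth.L13.DecBound.mu_le_sub 𝓕 αE α hα hle N 𝓖 e (fun _ => rfl) (fun _ => rfl)
    have hG := hss 𝓖 fun j => hok _
    have himg : Finset.univ.image e = S := Finset.image_orderEmbOfFin_univ S rfl
    have hsum : ∀ f : Fin 𝓕.t → ℚ, ∑ j : Fin S.card, f (e j) = ∑ i ∈ S, f i := fun f =>
      (Finset.sum_image (f := f) e.injective.injOn).symm.trans (Finset.sum_congr himg fun _ _ => rfl)
    have hS : ∑ i ∈ S, 𝓕.wt i * v i ≤ 𝓖.msum αE α dE d := by
      rw [← hsum fun i => 𝓕.wt i * v i]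
      refine Finset.sum_le_sum fun j _ => mul_le_mul_of_nonneg_left ?_ (𝓕.wt_pos _).le
      exact hgood _ (Finset.mem_filter.1 (S.orderEmbOfFin_mem rfl j)).2
    have hwt : ∑ j, 𝓖.wt j = ∑ i ∈ S, 𝓕.wt i := hsum fun i => 𝓕.wt i
    rw [hwt, hw, add_sub_cancel_left] at hμ
    have := mul_le_mul_of_nonneg_left hμ hδ
    nlinarith

end Groth.L11.DecBd
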