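import Groth.Agent.L11.DecBd.Small
import Groth.Agent.L11.DecBd.Filt
import Groth.Agent.S19313

/-!
# Decorated sheaves on reduced curves: uniform bounds
-/

set_option autoImplicit false
set_option backward.isDefEq.respectTransparency false
set_option linter.style.haveILetI false
set_option linter.unusedSectionVars false

universe u

open CategoryTheory CategoryTheory.Limits AlgebraicGeometry TopologicalSpace

noncomputable section

namespace Groth.L11.DecBd

attribute [local irreducible] Curv2.euler DecSh.mult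

variable (k : Type u) [Field k] {X : Scheme.{u}} [X.Over (Spec (CommRingCat.of k))]
  [IsProper (X ↘ Spec (CommRingCat.of k))] {L : X.Modules} (hL : CohB1.IsAmple L)
  (hdim : topologicalKrullDim X ≤ 1)

include hL in
theorem h0_twist_eq (M : X.Modules) (m : ℕ) :
    Module.finrank k (Coh.HH X (ShStab.twist X L M m) 0) = hh k 0 (tw hL.1 M m) :=
  hh_iso k (nonempty_twist_nat hL.1 M m).some.symm

include hL hdim in
theorem euler_twist_eq {M : X.Modules} (hM : Coh.IsCoh M) (m : ℕ) :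
    Curv2.euler k X (ShStab.twist X L M m) = Curv2.euler k X M + (m : ℤ) * DecSh.mult k X L M :=
  (euler_iso' k (nonempty_twist_nat hL.1 M m).some.symm).trans (euler_tw hL.1 k hdim hM m)

include hL hdim in
/-- Sections dominate the linear part. -/
theorem le_h0_twist {M : X.Modules} (hM : Coh.IsCoh M) (m : ℕ) :
    Curv2.euler k X M + (m : ℤ) * DecSh.mult k X L M ≤ Module.finrank k (Coh.HH X (ShStab.twist X L M m) 0) := by
  rw [← euler_twist_eq k hL hdim hM m, euler_eq' k hdim]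
  simp only [hh]
  omega

include hL hdim in
/-- Without `H¹` the sections are the linear part. -/
theorem h0_twist_of_vanish {M : X.Modules} (hM : Coh.IsCoh M) {m : ℕ}
    (h : Subsingleton (Coh.HH X (ShStab.twist X L M m) 1)) :
    (Module.finrank k (Coh.HH X (ShStab.twist X L M m) 0) : ℤ) =
      Curv2.euler k X M + (m : ℤ) * DecSh.mult k X L M := by
  rw [← euler_twist_eq k hL hdim hM m, euler_eq' k hdim]
  have := hh_of_subsingleton k (q := 1) h
  simp only [hh] at *
  omega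

variable {E : X.Modules} (𝓕 : DecSh.WFilt E)

include hL hdim in
theorem piece_mult (hE : Coh.IsCoh E) (hp : Pure1 k L E)
    (hc : ∀ i, Coh.IsCoh ((𝓕.piece i : Subobject E) : X.Modules)) (i : Fin 𝓕.t) :
    1 ≤ DecSh.mult k X L ((𝓕.piece i : Subobject E) : X.Modules) ∧
      DecSh.mult k X L ((𝓕.piece i : Subobject E) : X.Modules) ≤ DecSh.mult k X L E :=
  ⟨hp _ (𝓕.piece i).arrow inferInstance (hc i) (𝓕.piece_nonzero i), mult_le' k hL hdim (𝓕.piece i).arrow (hc i) hE⟩

section Sem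

variable [IsAlgClosed k] [CharZero k] [AlgebraicGeometry.IsReduced X] (hd1 : topologicalKrullDim X = 1)
  (hpure : ∀ x : X, ¬ IsOpen ({x} : Set X))

include hL hd1 hpure in
/-- Semistability bounds the Euler characteristics of submodules. -/
theorem subLE_of_semistable (hE : Coh.IsCoh E) (htf : TorSh.IsTorsionFree E) {D : X.Modules} {a b : ℕ}
    (T : DecSh.TF E a b D) {δ : ℚ} (hδ : 0 < δ) (hT : T.IsSemistable k L δ) :
    SubLE k E (|Curv2.euler k X E| + (⌈δ * (a : ℚ)⌉₊ : ℤ)) := by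
  intro G ι hι hG hG0
  haveI := hι
  have hR : (0 : ℤ) ≤ (⌈δ * (a : ℚ)⌉₊ : ℤ) := Int.natCast_nonneg _
  have habs := le_abs_self (Curv2.euler k X E)
  by_cases hi : IsIso ι
  · rw [euler_iso' k (asIso ι)]
    linarith
  have hp := pure1_of_torsionFree k hd1.le hL hpure htf
  have h1 : (1 : ℚ) ≤ (DecSh.mult k X L G : ℚ) := by exact_mod_cast hp G ι hι hG hG0
  have h2 : (DecSh.mult k X L G : ℚ) ≤ (DecSh.mult k X L E : ℚ) := by exact_mod_cast mult_le' k hL hd1.le ι hG hE
  have h := Groth.Agent.S19313.result k X hd1 hpure L hL E hE htf T δ hδ hT G ι hG hG0 hi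
  have hc : δ * (a : ℚ) ≤ (⌈δ * (a : ℚ)⌉₊ : ℚ) := Nat.le_ceil _
  have h3 : (DecSh.mult k X L G : ℚ) * (Curv2.euler k X E : ℚ) ≤
      (DecSh.mult k X L E : ℚ) * |(Curv2.euler k X E : ℚ)| :=
    (mul_le_mul_of_nonneg_left (le_abs_self _) (by linarith)).trans (mul_le_mul_of_nonneg_right h2 (abs_nonneg _))
  have h4 : δ * (a : ℚ) * ((DecSh.mult k X L E : ℚ) - (DecSh.mult k X L G : ℚ)) ≤
      (⌈δ * (a : ℚ)⌉₊ : ℚ) * (DecSh.mult k X L E : ℚ) :=
    mul_le_mul hc (by linarith) (by linarith) (Nat.cast_nonneg _)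
  have h5 : (Curv2.euler k X G : ℚ) ≤ |(Curv2.euler k X E : ℚ)| + (⌈δ * (a : ℚ)⌉₊ : ℚ) := by
    refine le_of_mul_le_mul_left ?_ (show (0 : ℚ) < (DecSh.mult k X L E : ℚ) by linarith)
    nlinarith
  exact_mod_cast h5

include hL hd1 hpure in
/-- The sectional expression of a semistable field: bad steps are penalised. -/
theorem exists_sectional (α e : ℤ) (a b : ℕ) (D : X.Modules) {δ : ℚ} (hδ : 0 < δ) :
    ∃ N₀ : ℕ, ∀ m : ℕ, N₀ ≤ m → ∀ (E : X.Modules), Coh.IsCoh E → TorSh.IsTorsionFree E →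
      DecSh.mult k X L E = α → Curv2.euler k X E = e → ∀ T : DecSh.TF E a b D, T.IsSemistable k L δ →
        ∀ 𝓕 : DecSh.WFilt E, (∀ i, Coh.IsCoh ((𝓕.piece i : Subobject E) : X.Modules)) →
          ∀ (good : Fin 𝓕.t → Prop) [DecidablePred good], (∀ i, ¬ good i →
              ¬ Subsingleton (Coh.HH X (ShStab.twist X L ((𝓕.piece i : Subobject E) : X.Modules) m) 1)) →
            (∑ i, 𝓕.wt i * ((α : ℚ) *
                (Module.finrank k (Coh.HH X (ShStab.twist X L ((𝓕.piece i : Subobject E) : X.Modules) m) 0) : ℚ) -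
              (DecSh.mult k X L ((𝓕.piece i : Subobject E) : X.Modules) : ℚ) *
                (Curv2.euler k X (ShStab.twist X L E m) : ℚ))) + δ * T.mu k L 𝓕 ≤
              -(∑ i ∈ Finset.univ.filter (fun i => ¬ good i), 𝓕.wt i) := by
  classical
  let R : ℕ := ⌈δ * (a : ℚ)⌉₊
  obtain ⟨N₀, hN⟩ := exists_dichotomy k hL hd1.le α.toNat (|e| + (R : ℤ)) (e.natAbs + R + 1)
  refine ⟨N₀, fun m hm E hE htf hα he T hT 𝓕 hc good _ hgood => ?_⟩
  have hp := pure1_of_torsionFree k hd1.le hL hpure htf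
  have hs := subLE_of_semistable k hL hd1 hpure hE htf T hδ hT
  rw [he] at hs
  have hmult := piece_mult k hL hd1.le 𝓕 hE hp hc
  have hm' : ∀ i, DecSh.mult k X L ((𝓕.piece i : Subobject E) : X.Modules) ≤ (α.toNat : ℤ) := fun i => by
    have := (hmult i).2
    omega
  have hd : ∀ i, Subsingleton (Coh.HH X (ShStab.twist X L ((𝓕.piece i : Subobject E) : X.Modules) m) 1) ∨
      (Module.finrank k (Coh.HH X (ShStab.twist X L ((𝓕.piece i : Subobject E) : X.Modules) m) 0) : ℤ) ≤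
        DecSh.mult k X L ((𝓕.piece i : Subobject E) : X.Modules) * m - ((e.natAbs + R + 1 : ℕ) : ℤ) := by
    intro i
    rw [h0_twist_eq k hL]
    refine (hN _ (hc i) (hp.sub k (𝓕.piece i).arrow) (hs.sub k (𝓕.piece i).arrow) (hm' i) m hm).imp_left fun h => ?_
    exact (Groth.L22.Reg.subsingleton_congr_iso (nonempty_twist_nat hL.1 _ m).some 1).1 h
  let good' : Fin 𝓕.t → Prop := fun i =>
    Subsingleton (Coh.HH X (ShStab.twist X L ((𝓕.piece i : Subobject E) : X.Modules) m) 1)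
  have key := sum_add_mu_le (fun P : Subobject E => Coh.IsCoh (P : X.Modules)) (DecSh.mult k X L E)
    (fun P => DecSh.mult k X L (P : X.Modules)) (Curv2.euler k X E) (fun P => (Curv2.euler k X (P : X.Modules) : ℚ))
    T.nv (η := 1) hδ.le hT 𝓕 hc (fun i => (hmult i).1) (fun i => (hmult i).2)
    (fun i => (α : ℚ) * (Module.finrank k (Coh.HH X (ShStab.twist X L ((𝓕.piece i : Subobject E) : X.Modules) m) 0) : ℚ) -
      (DecSh.mult k X L ((𝓕.piece i : Subobject E) : X.Modules) : ℚ) * (Curv2.euler k X (ShStab.twist X L E m) : ℚ))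
    good' (fun i hi => ?_) (fun i hi => ?_)
  · refine key.trans ?_
    rw [neg_mul, one_mul]
    exact neg_le_neg (Finset.sum_le_sum_of_subset_of_nonneg
      (fun i hi => Finset.mem_filter.2 ⟨Finset.mem_univ _, hgood i (Finset.mem_filter.1 hi).2⟩)
      (fun i _ _ => (𝓕.wt_pos i).le))
  · have h := h0_twist_of_vanish k hL hd1.le (hc i) hi
    have hq : (Module.finrank k (Coh.HH X (ShStab.twist X L ((𝓕.piece i : Subobject E) : X.Modules) m) 0) : ℚ) =
        ((Curv2.euler k X ((𝓕.piece i : Subobject E) : X.Modules) +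
          (m : ℤ) * DecSh.mult k X L ((𝓕.piece i : Subobject E) : X.Modules) : ℤ) : ℚ) := by exact_mod_cast h
    simp only [hq, euler_twist_eq k hL hd1.le hE, hα]
    push_cast
    apply le_of_eq
    ring
  · have h := (hd i).resolve_left hi
    have hh' : (Module.finrank k (Coh.HH X (ShStab.twist X L ((𝓕.piece i : Subobject E) : X.Modules) m) 0) : ℚ) ≤
        (DecSh.mult k X L ((𝓕.piece i : Subobject E) : X.Modules) : ℚ) * m - ((e.natAbs : ℚ) + R + 1) := by
      have h9 := (Int.cast_le (R := ℚ)).2 h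
      simp only [Int.cast_sub, Int.cast_mul, Int.cast_natCast] at h9
      rw [Nat.cast_add, Nat.cast_add, Nat.cast_one] at h9
      exact h9
    simp only [euler_twist_eq k hL hd1.le hE, hα, he]
    push_cast
    have h1 : (1 : ℚ) ≤ (DecSh.mult k X L ((𝓕.piece i : Subobject E) : X.Modules) : ℚ) := by exact_mod_cast (hmult i).1
    have h2 : (DecSh.mult k X L ((𝓕.piece i : Subobject E) : X.Modules) : ℚ) ≤ (α : ℚ) := by
      exact_mod_cast hα ▸ (hmult i).2
    have hc' : δ * (a : ℚ) ≤ (R : ℚ) := Nat.le_ceil _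
    have h3 : -(DecSh.mult k X L ((𝓕.piece i : Subobject E) : X.Modules) : ℚ) * (e : ℚ) ≤ (α : ℚ) * (e.natAbs : ℚ) := by
      have : -(e : ℚ) ≤ (e.natAbs : ℚ) := by
        have h9 := (Int.cast_le (R := ℚ)).2 (show -e ≤ (e.natAbs : ℤ) by omega)
        rwa [Int.cast_neg, Int.cast_natCast] at h9
      have h0 : (0 : ℚ) ≤ (e.natAbs : ℚ) := Nat.cast_nonneg _
      nlinarith
    have h4 := mul_le_mul_of_nonneg_left hh' (show (0 : ℚ) ≤ (α : ℚ) by linarith)
    have h5 : δ * ((a : ℚ) * ((α : ℚ) - 1)) ≤ (R : ℚ) * (α : ℚ) := by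
      rw [← mul_assoc]
      exact mul_le_mul hc' (by linarith) (by linarith) (Nat.cast_nonneg _)
    nlinarith

end Sem

section Quot

include hL hdim in
/-- The quotient sectional condition gives a bound on submodules. -/
theorem quot_cond {D : X.Modules} {a b : ℕ} (T : DecSh.TF E a b D) {δ : ℚ} (hδ : 0 < δ) (hE : Coh.IsCoh E) (m : ℕ)
    (hq : ∀ 𝓕 : DecSh.WFilt E, (∀ i, Coh.IsCoh ((𝓕.piece i : Subobject E) : X.Modules)) →
      (∑ i, 𝓕.wt i * ((DecSh.mult k X L (cokernel (𝓕.piece i).arrow) : ℚ) *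
          (Curv2.euler k X (ShStab.twist X L E m) : ℚ) -
        (DecSh.mult k X L E : ℚ) * (Module.finrank k (Coh.HH X (ShStab.twist X L (cokernel (𝓕.piece i).arrow) m) 0) : ℚ))) +
        δ * T.mu k L 𝓕 ≤ 0)
    (G : X.Modules) (ι : G ⟶ E) [Mono ι] (hG : Coh.IsCoh G) (hG0 : ¬ IsZero G) (hi : ¬ IsIso ι) :
    DecSh.mult k X L (cokernel ι) * (Curv2.euler k X E + m * DecSh.mult k X L E - (⌈δ * (a : ℚ)⌉₊ : ℤ)) ≤
      DecSh.mult k X L E * hh k 0 (tw hL.1 (cokernel ι) m) := by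
  haveI := Groth.L21.RR.isNoetherian_of_proper (X := X) k
  have hP : Subobject.mk ι ≠ ⊤ := fun h => hi ((Subobject.isIso_iff_mk_eq_top ι).2 h)
  let θ : ((Subobject.mk ι : Subobject E) : X.Modules) ≅ G := Subobject.underlyingIso ι
  have hP0 : ¬ IsZero ((Subobject.mk ι : Subobject E) : X.Modules) := fun h => hG0 (h.of_iso θ.symm)
  have hPc : Coh.IsCoh ((Subobject.mk ι : Subobject E) : X.Modules) := Groth.L16.CohSupport.isCoh_of_iso θ.symm hG
  let c : cokernel (Subobject.mk ι).arrow ≅ cokernel ι := cokernel.mapIso _ _ θ (Iso.refl E) (by simp [θ])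
  have h := hq (DecSh.WFilt.single (Subobject.mk ι) hP hP0) fun _ => hPc
  have hα := mult_nonneg' k hL hdim hE
  have hmu := Groth.L13.DecBound.single_mu_ge (DecSh.mult k X L E) (fun P : Subobject E => DecSh.mult k X L (P : X.Modules))
    hP hP0 hα T.nv
  obtain ⟨-, hadd⟩ := add_cokernel k hL hdim hG hE ι
  change (∑ i : Fin 1, (1 : ℚ) * _) + _ ≤ _ at h
  rw [Fin.sum_univ_one, one_mul] at h
  rw [show DecSh.mult k X L ((Subobject.mk ι : Subobject E) : X.Modules) = DecSh.mult k X L G from mult_iso k θ] at hmu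
  have e1 : DecSh.mult k X L (cokernel (Subobject.mk ι).arrow) = DecSh.mult k X L (cokernel ι) := mult_iso k c
  have e2 : Module.finrank k (Coh.HH X (ShStab.twist X L (cokernel (Subobject.mk ι).arrow) m) 0) =
      hh k 0 (tw hL.1 (cokernel ι) m) :=
    (h0_twist_eq k hL _ m).trans (hh_iso k (nonempty_tw_iso hL.1 c _).some)
  change (DecSh.mult k X L (cokernel (Subobject.mk ι).arrow) : ℚ) * _ -
    _ * (Module.finrank k (Coh.HH X (ShStab.twist X L (cokernel (Subobject.mk ι).arrow) m) 0) : ℚ) + _ ≤ _ at h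
  rw [e1, e2, euler_twist_eq k hL hdim hE] at h
  have hq0 : (0 : ℚ) ≤ (DecSh.mult k X L (cokernel ι) : ℚ) := by
    exact_mod_cast mult_nonneg' k hL hdim (isCoh_cokernel' k hG hE ι)
  have hadd' : (DecSh.mult k X L E : ℚ) = (DecSh.mult k X L G : ℚ) + (DecSh.mult k X L (cokernel ι) : ℚ) := by
    exact_mod_cast hadd
  have hc : δ * (a : ℚ) ≤ (⌈δ * (a : ℚ)⌉₊ : ℚ) := Nat.le_ceil _
  have hmuδ := mul_le_mul_of_nonneg_left hmu hδ.le
  have h5 := mul_le_mul_of_nonneg_right hc hq0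
  have key : (DecSh.mult k X L (cokernel ι) : ℚ) * ((Curv2.euler k X E : ℚ) + (m : ℚ) * (DecSh.mult k X L E : ℚ) -
      (⌈δ * (a : ℚ)⌉₊ : ℚ)) ≤ (DecSh.mult k X L E : ℚ) * (hh k 0 (tw hL.1 (cokernel ι) m) : ℚ) := by
    simp only [DecSh.TF.mu] at h
    push_cast at h
    rw [hadd'] at hmuδ
    ring_nf at hmuδ h5 h ⊢
    linarith
  exact_mod_cast key

include hL hdim in
/-- The uniform bound from the quotient sectional condition. -/
theorem exists_quot_sub [IsAlgClosed k] (α e : ℤ) (a b : ℕ) (D : X.Modules) {δ : ℚ} (hδ : 0 < δ) :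
    ∃ N₁ : ℕ, ∃ B : ℤ, ∀ (E : X.Modules), Coh.IsCoh E → DecSh.mult k X L E = α → Curv2.euler k X E = e →
      ∀ (T : DecSh.TF E a b D) (m : ℕ), N₁ ≤ m →
      (∀ 𝓕 : DecSh.WFilt E, (∀ i, Coh.IsCoh ((𝓕.piece i : Subobject E) : X.Modules)) →
        (∑ i, 𝓕.wt i * ((DecSh.mult k X L (cokernel (𝓕.piece i).arrow) : ℚ) *
            (Curv2.euler k X (ShStab.twist X L E m) : ℚ) -
          (α : ℚ) * (Module.finrank k (Coh.HH X (ShStab.twist X L (cokernel (𝓕.piece i).arrow) m) 0) : ℚ))) +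
          δ * T.mu k L 𝓕 ≤ 0) → SubLE k E B := by
  obtain ⟨N₁, B, hB⟩ := exists_sub_bound k hL hdim α.toNat e ⌈δ * (a : ℚ)⌉₊
  refine ⟨N₁, B, fun E hE hα he T m hm hq => ?_⟩
  have h0 : ((α.toNat : ℕ) : ℤ) = α := Int.toNat_of_nonneg (hα ▸ mult_nonneg' k hL hdim hE)
  refine hB E hE (hα.trans h0.symm) he m hm fun G ι hι hG hG0 hi => ?_
  haveI := hι
  have := quot_cond k hL hdim T hδ hE m (by rw [hα]; exact hq) G ι hG hG0 hi
  rw [hα, he] at this
  rw [h0]
  exact this

end Quot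

end Groth.L11.DecBd
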