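import Groth.Agent.L11.DecBd.Deco

/-!
# Sectional semistability and boundedness of decorated sheaves on reduced curves
-/

set_option autoImplicit false
set_option backward.isDefEq.respectTransparency false
set_option linter.style.haveILetI false
set_option linter.unusedSectionVars false

universe u

open CategoryTheory CategoryTheory.Limits AlgebraicGeometry TopologicalSpace

noncomputable section

namespace Groth.L11.DecBd

attribute [local irreducible] Curv2.euler DecSh.mult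

variable (k : Type u) [Field k] [IsAlgClosed k] [CharZero k] {X : Scheme.{u}} [X.Over (Spec (CommRingCat.of k))]
  [IsProper (X ↘ Spec (CommRingCat.of k))] [AlgebraicGeometry.IsReduced X] {L : X.Modules} (hL : CohB1.IsAmple L)
  (hd1 : topologicalKrullDim X = 1) (hpure : ∀ x : X, ¬ IsOpen ({x} : Set X))
  (α e : ℤ) (a b : ℕ) (D : X.Modules) {δ : ℚ} (hδ : 0 < δ)

/-- Semistable, or quotient-sectional at some twist at least `N`. -/
def Fam (δ : ℚ) (N : ℕ) (E : X.Modules) : Prop :=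
  Coh.IsCoh E ∧ TorSh.IsTorsionFree E ∧ DecSh.mult k X L E = α ∧ Curv2.euler k X E = e ∧
    ∃ T : DecSh.TF E a b D, (T.IsSemistable k L δ ∨ ∃ m : ℕ, N ≤ m ∧
      ∀ 𝓕 : DecSh.WFilt E, (∀ i, Coh.IsCoh ((𝓕.piece i : Subobject E) : X.Modules)) →
        (∑ i, 𝓕.wt i * ((DecSh.mult k X L (cokernel (𝓕.piece i).arrow) : ℚ) *
            (Curv2.euler k X (ShStab.twist X L E m) : ℚ) -
          (α : ℚ) * (Module.finrank k (Coh.HH X (ShStab.twist X L (cokernel (𝓕.piece i).arrow) m) 0) : ℚ))) +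
          δ * T.mu k L 𝓕 ≤ 0)

include hL hd1 hpure hδ in
/-- Members satisfy uniform hypotheses. -/
theorem exists_fam_mem : ∃ (N₁ : ℕ) (C : ℤ), ∀ E : X.Modules, Fam k (L := L) α e a b D δ N₁ E →
    Mem k L α C |e| E := by
  obtain ⟨N₁, B, hB⟩ := exists_quot_sub k hL hd1.le α e a b D hδ
  refine ⟨N₁, max B (|e| + (⌈δ * (a : ℚ)⌉₊ : ℤ)), ?_⟩
  rintro E ⟨hE, htf, hα, he, T, hT⟩
  refine ⟨hE, pure1_of_torsionFree k hd1.le hL hpure htf, ?_, hα.le, by rw [he]; exact neg_abs_le e⟩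
  rcases hT with hT | ⟨m, hm, hq⟩
  · exact (he ▸ subLE_of_semistable k hL hd1 hpure hE htf T hδ hT).mono' k (le_max_right _ _)
  · exact (hB E hE hα he T m hm hq).mono' k (le_max_left _ _)

include hL hd1 hpure hδ in
theorem isBounded_fam : ∃ N₁ : ℕ, Pic13.IsBounded k X (fun E => Fam k (L := L) α e a b D δ N₁ E) := by
  obtain ⟨N₁, C, hC⟩ := exists_fam_mem k hL hd1 hpure α e a b D hδ
  exact ⟨N₁, isBounded_family k hL hd1.le α C |e| _ fun E hE => ⟨hC E hE, by rw [hE.2.2.2.1]; exact le_abs_self e⟩⟩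

include hL hd1 hpure hδ in
theorem isBounded_semistable : Pic13.IsBounded k X (fun F => Coh.IsCoh F ∧ TorSh.IsTorsionFree F ∧
    DecSh.mult k X L F = α ∧ Curv2.euler k X F = e ∧ ∃ T : DecSh.TF F a b D, T.IsSemistable k L δ) := by
  obtain ⟨N₁, h⟩ := exists_fam_mem k hL hd1 hpure α e a b D hδ
  obtain ⟨C, hC⟩ := h
  refine isBounded_family k hL hd1.le α C |e| _ fun E ⟨hE, htf, hα, he, T, hT⟩ => ⟨hC E ⟨hE, htf, hα, he, T, Or.inl hT⟩, ?_⟩
  rw [he]; exact le_abs_self e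

include hL hd1 hpure hδ in
theorem isBounded_sub : ∃ N₁ : ℕ, ∀ C : ℚ, Pic13.IsBounded k X (fun F' => Coh.IsCoh F' ∧
    (∃ (F : X.Modules) (ι : F' ⟶ F), Mono ι ∧ TorSh.IsTorsionFree (cokernel ι) ∧ Fam k (L := L) α e a b D δ N₁ F) ∧
    |(Curv2.euler k X F' : ℚ) - (DecSh.mult k X L F' : ℚ) * (((e : ℚ) - (a : ℚ) * δ) / (α : ℚ))| ≤ C) := by
  obtain ⟨N₁, C₁, hC⟩ := exists_fam_mem k hL hd1 hpure α e a b D hδ
  refine ⟨N₁, fun C => ?_⟩
  let s : ℚ := ((e : ℚ) - (a : ℚ) * δ) / (α : ℚ)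
  refine isBounded_family k hL hd1.le α C₁ ⌈|C| + |(α : ℚ)| * |s|⌉ _ ?_
  rintro F' ⟨hF', ⟨F, ι, hι, -, hF⟩, habs⟩
  haveI := hι
  have hM := hC F hF
  have h1 := mult_nonneg' k hL hd1.le hF'
  have h2 := (mult_le' k hL hd1.le ι hF' hM.coh).trans hM.mult
  have h1' : (0 : ℚ) ≤ (DecSh.mult k X L F' : ℚ) := by exact_mod_cast h1
  have h2' : (DecSh.mult k X L F' : ℚ) ≤ |(α : ℚ)| :=
    (show (DecSh.mult k X L F' : ℚ) ≤ (α : ℚ) by exact_mod_cast h2).trans (le_abs_self _)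
  have h3 : |(Curv2.euler k X F' : ℚ)| ≤ |C| + |(α : ℚ)| * |s| := by
    have h4 : |(DecSh.mult k X L F' : ℚ) * s| ≤ |(α : ℚ)| * |s| := by
      rw [abs_mul, abs_of_nonneg h1']
      exact mul_le_mul_of_nonneg_right h2' (abs_nonneg _)
    calc |(Curv2.euler k X F' : ℚ)|
        = |((Curv2.euler k X F' : ℚ) - (DecSh.mult k X L F' : ℚ) * s) + (DecSh.mult k X L F' : ℚ) * s| := by
          rw [sub_add_cancel]
      _ ≤ _ := (abs_add_le _ _).trans (add_le_add (habs.trans (le_abs_self C)) h4)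
  have h5 := abs_le.1 (h3.trans (Int.le_ceil _))
  refine ⟨⟨hF', hM.pure.sub k ι, hM.sub.sub k ι, h2, ?_⟩, ?_⟩
  · exact_mod_cast h5.1
  · exact_mod_cast h5.2

include hL hd1 hpure hδ in
theorem sectional_iff : ∃ N₀ : ℕ, ∀ m : ℕ, N₀ ≤ m → ∀ (E : X.Modules), Coh.IsCoh E → TorSh.IsTorsionFree E →
    DecSh.mult k X L E = α → Curv2.euler k X E = e → ∀ T : DecSh.TF E a b D,
      (T.IsSemistable k L δ ↔
        ∀ 𝓕 : DecSh.WFilt E, (∀ i, Coh.IsCoh ((𝓕.piece i : Subobject E) : X.Modules)) →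
          (∑ i, 𝓕.wt i * ((α : ℚ) *
              (Module.finrank k (Coh.HH X (ShStab.twist X L ((𝓕.piece i : Subobject E) : X.Modules) m) 0) : ℚ) -
            (DecSh.mult k X L ((𝓕.piece i : Subobject E) : X.Modules) : ℚ) *
              (Curv2.euler k X (ShStab.twist X L E m) : ℚ))) + δ * T.mu k L 𝓕 ≤ 0) ∧
      (T.IsSemistable k L δ ↔
        ∀ 𝓕 : DecSh.WFilt E, (∀ i, Coh.IsCoh ((𝓕.piece i : Subobject E) : X.Modules)) →
          (∑ i, 𝓕.wt i * ((DecSh.mult k X L (cokernel (𝓕.piece i).arrow) : ℚ) *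
              (Curv2.euler k X (ShStab.twist X L E m) : ℚ) -
            (α : ℚ) * (Module.finrank k (Coh.HH X (ShStab.twist X L (cokernel (𝓕.piece i).arrow) m) 0) : ℚ))) +
            δ * T.mu k L 𝓕 ≤ 0) ∧
      (T.IsSemistable k L δ → Subsingleton (Coh.HH X (ShStab.twist X L E m) 1)) := by
  classical
  obtain ⟨N₁, C, hC⟩ := exists_fam_mem k hL hd1 hpure α e a b D hδ
  obtain ⟨n₀, hn⟩ := exists_vanish_gg k hL hd1.le α C |e|
  obtain ⟨N₂, hsec⟩ := exists_sectional k hL hd1 hpure α e a b D hδ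
  refine ⟨max N₁ (max n₀ N₂), fun m hm E hE htf hα he T => ?_⟩
  simp only [max_le_iff] at hm
  obtain ⟨hm1, hm0, hm2⟩ := hm
  haveI := Groth.L21.RR.isNoetherian_of_proper (X := X) k
  have hdim := hd1.le
  have hα0 : (0 : ℚ) ≤ (α : ℚ) := by exact_mod_cast hα ▸ mult_nonneg' k hL hdim hE
  have hvan : Fam k (L := L) α e a b D δ N₁ E → Subsingleton (Coh.HH X (ShStab.twist X L E m) 1) := fun h =>
    (Groth.L22.Reg.subsingleton_congr_iso (nonempty_twist_nat hL.1 E m).some 1).1 ((hn m hm0 E (hC E h)).1)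
  refine ⟨⟨fun hT 𝓕 hc => ?_, fun h 𝓕 hc => ?_⟩, ⟨fun hT 𝓕 hc => ?_, fun h 𝓕 hc => ?_⟩,
    fun hT => hvan ⟨hE, htf, hα, he, T, Or.inl hT⟩⟩
  · refine (hsec m hm2 E hE htf hα he T hT 𝓕 hc
      (fun i => Subsingleton (Coh.HH X (ShStab.twist X L ((𝓕.piece i : Subobject E) : X.Modules) m) 1))
      (fun _ h => h)).trans ?_
    exact neg_nonpos.2 (Finset.sum_nonneg fun i _ => (𝓕.wt_pos i).le)
  · refine le_trans (add_le_add ?_ le_rfl) (h 𝓕 hc)
    refine Finset.sum_le_sum fun i _ => mul_le_mul_of_nonneg_left ?_ (𝓕.wt_pos i).le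
    have h1 : ((Curv2.euler k X ((𝓕.piece i : Subobject E) : X.Modules) +
        (m : ℤ) * DecSh.mult k X L ((𝓕.piece i : Subobject E) : X.Modules) : ℤ) : ℚ) ≤
        (Module.finrank k (Coh.HH X (ShStab.twist X L ((𝓕.piece i : Subobject E) : X.Modules) m) 0) : ℚ) := by
      exact_mod_cast le_h0_twist k hL hdim (hc i) m
    have h2 := mul_le_mul_of_nonneg_left h1 hα0
    simp only [euler_twist_eq k hL hdim hE, hα, he] at h2 ⊢
    push_cast at h2 ⊢
    linarith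
  · refine le_trans (add_le_add ?_ le_rfl) (hT 𝓕 hc)
    refine Finset.sum_le_sum fun i _ => mul_le_mul_of_nonneg_left ?_ (𝓕.wt_pos i).le
    have hQ := isCoh_cokernel' k (hc i) hE (𝓕.piece i).arrow
    obtain ⟨ha, hm'⟩ := add_cokernel k hL hdim (hc i) hE (𝓕.piece i).arrow
    have h1 : ((Curv2.euler k X (cokernel (𝓕.piece i).arrow) +
        (m : ℤ) * DecSh.mult k X L (cokernel (𝓕.piece i).arrow) : ℤ) : ℚ) ≤
        (Module.finrank k (Coh.HH X (ShStab.twist X L (cokernel (𝓕.piece i).arrow) m) 0) : ℚ) := by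
      exact_mod_cast le_h0_twist k hL hdim hQ m
    have h2 := mul_le_mul_of_nonneg_left h1 hα0
    rw [hα] at hm'
    rw [he] at ha
    have hm'' : (DecSh.mult k X L (cokernel (𝓕.piece i).arrow) : ℚ) =
        (α : ℚ) - (DecSh.mult k X L ((𝓕.piece i : Subobject E) : X.Modules) : ℚ) := by
      rw [hm']; push_cast; ring
    have ha' : (Curv2.euler k X (cokernel (𝓕.piece i).arrow) : ℚ) =
        (e : ℚ) - (Curv2.euler k X ((𝓕.piece i : Subobject E) : X.Modules) : ℚ) := by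
      rw [ha]; push_cast; ring
    simp only [euler_twist_eq k hL hdim hE, hα, he] at h2 ⊢
    push_cast at h2 ⊢
    rw [hm'', ha'] at h2
    rw [hm'']
    ring_nf at h2 ⊢
    linarith
  · have hv := hvan ⟨hE, htf, hα, he, T, Or.inr ⟨m, hm1, h⟩⟩
    refine le_trans (add_le_add ?_ le_rfl) (h 𝓕 hc)
    refine Finset.sum_le_sum fun i _ => mul_le_mul_of_nonneg_left ?_ (𝓕.wt_pos i).le
    have hQ := isCoh_cokernel' k (hc i) hE (𝓕.piece i).arrow
    obtain ⟨ha, hm'⟩ := add_cokernel k hL hdim (hc i) hE (𝓕.piece i).arrow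
    have hEv : Subsingleton (Coh.HH X (tw hL.1 E m) 1) :=
      (Groth.L22.Reg.subsingleton_congr_iso (nonempty_twist_nat hL.1 E m).some 1).2 hv
    obtain ⟨f, hf, ⟨c⟩⟩ := exists_tw_cokernel (𝓕.piece i).arrow (m : ℤ) hL.1
    haveI := hf
    have h0 := h1_le_of_epi k hdim (isCoh_tw hL.1 hE m) (cokernel.π f)
    rw [hh_of_subsingleton k hEv, hh_iso k c] at h0
    have h1 := subsingleton_of_hh k (isCoh_tw hL.1 hQ m) (q := 1) (Nat.le_zero.1 h0)
    have h2 := h0_twist_of_vanish k hL hdim hQ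
      ((Groth.L22.Reg.subsingleton_congr_iso (nonempty_twist_nat hL.1 _ m).some 1).1 h1)
    have h3 : (Module.finrank k (Coh.HH X (ShStab.twist X L (cokernel (𝓕.piece i).arrow) m) 0) : ℚ) =
        ((Curv2.euler k X (cokernel (𝓕.piece i).arrow) +
          (m : ℤ) * DecSh.mult k X L (cokernel (𝓕.piece i).arrow) : ℤ) : ℚ) := by exact_mod_cast h2
    rw [hα] at hm'
    rw [he] at ha
    have hm'' : (DecSh.mult k X L (cokernel (𝓕.piece i).arrow) : ℚ) =
        (α : ℚ) - (DecSh.mult k X L ((𝓕.piece i : Subobject E) : X.Modules) : ℚ) := by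
      rw [hm']; push_cast; ring
    have ha' : (Curv2.euler k X (cokernel (𝓕.piece i).arrow) : ℚ) =
        (e : ℚ) - (Curv2.euler k X ((𝓕.piece i : Subobject E) : X.Modules) : ℚ) := by
      rw [ha]; push_cast; ring
    simp only [euler_twist_eq k hL hdim hE, hα, he, h3]
    push_cast
    rw [hm'', ha']
    apply le_of_eq
    ring

include hL hd1 hpure hδ in
theorem sectional_eq : ∃ N₀ : ℕ, ∀ m : ℕ, N₀ ≤ m → ∀ (E : X.Modules), Coh.IsCoh E → TorSh.IsTorsionFree E →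
    DecSh.mult k X L E = α → Curv2.euler k X E = e → ∀ T : DecSh.TF E a b D, T.IsSemistable k L δ →
      ∀ 𝓕 : DecSh.WFilt E, (∀ i, Coh.IsCoh ((𝓕.piece i : Subobject E) : X.Modules)) →
        (∑ i, 𝓕.wt i * ((α : ℚ) *
            (Module.finrank k (Coh.HH X (ShStab.twist X L ((𝓕.piece i : Subobject E) : X.Modules) m) 0) : ℚ) -
          (DecSh.mult k X L ((𝓕.piece i : Subobject E) : X.Modules) : ℚ) *
            (Curv2.euler k X (ShStab.twist X L E m) : ℚ))) + δ * T.mu k L 𝓕 = 0 →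
        ∀ i, (Module.finrank k (Coh.HH X (ShStab.twist X L ((𝓕.piece i : Subobject E) : X.Modules) m) 0) : ℤ) =
          Curv2.euler k X (ShStab.twist X L ((𝓕.piece i : Subobject E) : X.Modules) m) := by
  classical
  obtain ⟨N₂, hsec⟩ := exists_sectional k hL hd1 hpure α e a b D hδ
  refine ⟨N₂, fun m hm E hE htf hα he T hT 𝓕 hc heq i => ?_⟩
  let good : Fin 𝓕.t → Prop := fun i =>
    Subsingleton (Coh.HH X (ShStab.twist X L ((𝓕.piece i : Subobject E) : X.Modules) m) 1)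
  have h := hsec m hm E hE htf hα he T hT 𝓕 hc good (fun _ h => h)
  rw [heq] at h
  have hgood : good i := by
    by_contra hb
    have h1 := Finset.single_le_sum (f := 𝓕.wt) (fun j _ => (𝓕.wt_pos j).le)
      (show i ∈ Finset.univ.filter (fun i => ¬ good i) from Finset.mem_filter.2 ⟨Finset.mem_univ i, hb⟩)
    have := 𝓕.wt_pos i
    linarith
  rw [euler_twist_eq k hL hd1.le (hc i)]
  exact h0_twist_of_vanish k hL hd1.le (hc i) hgood

end Groth.L11.DecBd
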