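import Groth.Agent.L11.DecBd.Deco
import Groth.Agent.L22.CurveDeg.TensorDeg
import Groth.Agent.L12.FinCov.Frame
import Groth.Agent.S19315

/-!
# Parabolic decorated bundles on smooth curves: uniform bounds
-/

set_option autoImplicit false
set_option backward.isDefEq.respectTransparency false
set_option linter.style.haveILetI false
set_option linter.unusedSectionVars false

universe u

open CategoryTheory CategoryTheory.Limits AlgebraicGeometry TopologicalSpace

noncomputable section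

namespace Groth.L11.DecBd

attribute [local irreducible] Curv2.euler DecSh.mult

variable (k : Type u) [Field k] [IsAlgClosed k] [CharZero k] {Y : Scheme.{u}} [Y.Over (Spec (CommRingCat.of k))]
  [IsProper (Y ↘ Spec (CommRingCat.of k))] [Smooth (Y ↘ Spec (CommRingCat.of k))] {L : Y.Modules}
  (hL : CohB1.IsAmple L) (hd1 : topologicalKrullDim Y = 1) (hpure : ∀ y : Y, ¬ IsOpen ({y} : Set Y))
  (r : ℕ)

include k in
/-- A locally free module is coherent and torsion free. -/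
theorem coh_tf_of_rank {E : Y.Modules} (hE : FlatMod.IsFinLocFreeOfRank r E) :
    Coh.IsCoh E ∧ TorSh.IsTorsionFree E := by
  haveI := Groth.L21.RR.isNoetherian_of_proper (X := Y) k
  haveI : AlgebraicGeometry.IsReduced Y := Groth.L23.isReduced_of_smooth (Y ↘ Spec (CommRingCat.of k))
  refine ⟨Groth.L16.NegPow.isCoh_of_isFinLocFree (fun y => let ⟨U, h, e⟩ := hE y; ⟨U, r, h, e⟩), fun x => ?_⟩
  obtain ⟨θ⟩ := Groth.L22.CurveDeg.nonempty_stalk_equiv hE x
  exact Function.Injective.moduleIsTorsionFree _ θ.symm.injective fun c v => θ.symm.map_smul c v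

include hL hd1 in
/-- Multiplicity and Euler characteristic of a bundle of given rank and degree. -/
theorem mult_euler_of_rank {E : Y.Modules} (hE : FlatMod.IsFinLocFreeOfRank r E) {d : ℤ}
    (hd : Curv2.deg k Y E r = d) :
    DecSh.mult k Y L E = (r : ℤ) * Curv2.deg k Y L 1 ∧
      Curv2.euler k Y E = d + (r : ℤ) * Curv2.euler k Y (Coh.structureModule Y) := by
  have h := Groth.L22.CurveDeg.deg_tensor_locFree k hd1.le hE (Groth.L12.FinCov.isFinLocFreeOfRank_one_of_isInvertible hL.1)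
  unfold DecSh.mult
  simp only [Curv2.deg] at h hd ⊢
  push_cast at h ⊢
  constructor <;> linarith

variable {ν : ℕ} (I : Fin ν → Y.IdealSheafData) (hI : ∀ i, FGA.IsEffCartier (I i))
  (κ : Fin ν → ℚ) (hκ : ∀ i, 0 < κ i ∧ κ i < 1) {δ : ℚ} (hδ : 0 < δ)

include hL hd1 hpure hI hκ hδ in
/-- The slope bound of a semistable parabolic field. -/
theorem subLE_of_par {E : Y.Modules} (hE : FlatMod.IsFinLocFreeOfRank r E)
    (K : ∀ i, Submodule k (ParSh.fibD Y (I i) E))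
    (hK : ∀ i, Module.finrank k (ParSh.fibD Y (I i) E ⧸ K i) = r)
    {D : Y.Modules} {a b : ℕ} (T : DecSh.TF E a b D) (hT : T.IsParSemistable k I K κ L δ) :
    SubLE k E (|Curv2.euler k Y E| + DecSh.mult k Y L E * ((⌈δ * (a : ℚ)⌉₊ : ℤ) + (r : ℤ) * (ν : ℤ))) := by
  haveI : AlgebraicGeometry.IsReduced Y := Groth.L23.isReduced_of_smooth (Y ↘ Spec (CommRingCat.of k))
  obtain ⟨hEc, htf⟩ := coh_tf_of_rank k r hE
  intro G ι hι hG hG0
  haveI := hι
  have hp := pure1_of_torsionFree k hd1.le hL hpure htf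
  have h1 : (1 : ℚ) ≤ (DecSh.mult k Y L G : ℚ) := by exact_mod_cast hp G ι hι hG hG0
  have h2 : (DecSh.mult k Y L G : ℚ) ≤ (DecSh.mult k Y L E : ℚ) := by exact_mod_cast mult_le' k hL hd1.le ι hG hEc
  have hR : δ * (a : ℚ) ≤ (⌈δ * (a : ℚ)⌉₊ : ℚ) := Nat.le_ceil _
  suffices hq : (Curv2.euler k Y G : ℚ) ≤ |(Curv2.euler k Y E : ℚ)| +
      (DecSh.mult k Y L E : ℚ) * ((⌈δ * (a : ℚ)⌉₊ : ℚ) + (r : ℚ) * (ν : ℚ)) by exact_mod_cast hq
  by_cases hi : IsIso ι
  · rw [euler_iso' k (asIso ι)]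
    refine (le_abs_self _).trans (le_add_of_nonneg_right ?_)
    exact mul_nonneg (by linarith) (by positivity)
  have h := Groth.Agent.S19315.result k Y hd1 hpure L hL E r hE I hI K hK κ hκ T δ hδ hT G ι hG hG0 hi
  rw [div_le_iff₀ (by linarith)] at h
  refine h.trans ?_
  have h3 : (Curv2.euler k Y E : ℚ) / (DecSh.mult k Y L E : ℚ) * (DecSh.mult k Y L G : ℚ) ≤ |(Curv2.euler k Y E : ℚ)| := by
    rw [div_mul_eq_mul_div, div_le_iff₀ (by linarith)]
    exact (mul_le_mul_of_nonneg_right (le_abs_self _) (by linarith)).trans (mul_le_mul_of_nonneg_left h2 (abs_nonneg _))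
  have h4 : ((a : ℚ) * δ + (r : ℚ) * (ν : ℚ)) * (DecSh.mult k Y L G : ℚ) ≤
      (DecSh.mult k Y L E : ℚ) * ((⌈δ * (a : ℚ)⌉₊ : ℚ) + (r : ℚ) * (ν : ℚ)) := by
    rw [mul_comm (DecSh.mult k Y L E : ℚ)]
    exact mul_le_mul (by linarith) h2 (by linarith) (by positivity)
  rw [add_mul]
  exact add_le_add h3 h4

/-- The parabolic weight of a subsheaf lies between `0` and `r ν`. -/
theorem parWeight_bounds (hκ : ∀ i, 0 < κ i ∧ κ i < 1) {E F : Y.Modules} (hr : 0 < r)
    (K : ∀ i, Submodule k (ParSh.fibD Y (I i) E))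
    (hK : ∀ i, Module.finrank k (ParSh.fibD Y (I i) E ⧸ K i) = r) (ι : F ⟶ E) :
    0 ≤ (Curv2.euler k Y F : ℚ) - DecSh.parChi k I K κ ι ∧
      (Curv2.euler k Y F : ℚ) - DecSh.parChi k I K κ ι ≤ (r : ℚ) * (ν : ℚ) := by
  simp only [DecSh.parChi, sub_sub_cancel]
  refine ⟨Finset.sum_nonneg fun i _ => mul_nonneg (hκ i).1.le (Nat.cast_nonneg _), ?_⟩
  refine (Finset.sum_le_card_nsmul _ _ (r : ℚ) fun i _ => ?_).trans (le_of_eq (by simp [mul_comm]))
  exact (mul_le_of_le_one_left (Nat.cast_nonneg _) (hκ i).2.le).trans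
    (Nat.cast_le.2 (Groth.Agent.S19315.finrank_sub_le hr (hK i) _))

include hL hd1 hpure hI hκ hδ in
theorem par_bounded (a b : ℕ) (d : ℤ) :
    ∃ n₀ : ℕ, ∀ n : ℕ, n₀ ≤ n → ∀ E : Y.Modules,
      (FlatMod.IsFinLocFreeOfRank r E ∧ Curv2.deg k Y E r = d ∧
        ∃ (K : ∀ i, Submodule k (ParSh.fibD Y (I i) E)),
          (∀ i, Module.finrank k (ParSh.fibD Y (I i) E ⧸ K i) = r) ∧
          ∃ (D : Y.Modules) (T : DecSh.TF E a b D), T.IsParSemistable k I K κ L δ) →
      Subsingleton (Coh.HH Y (CohB1.tensorMod E (CohB1.tensorPow L n)) 1) ∧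
        Curv2.IsGloballyGenerated (CohB1.tensorMod E (CohB1.tensorPow L n)) := by
  haveI : AlgebraicGeometry.IsReduced Y := Groth.L23.isReduced_of_smooth (Y ↘ Spec (CommRingCat.of k))
  let α : ℤ := (r : ℤ) * Curv2.deg k Y L 1
  let e : ℤ := d + (r : ℤ) * Curv2.euler k Y (Coh.structureModule Y)
  obtain ⟨n₀, hn⟩ := exists_vanish_gg k hL hd1.le α (|e| + α * ((⌈δ * (a : ℚ)⌉₊ : ℤ) + (r : ℤ) * (ν : ℤ))) |e|
  refine ⟨n₀, fun n hnn E ⟨hE, hd, K, hK, D, T, hT⟩ => ?_⟩
  obtain ⟨hEc, htf⟩ := coh_tf_of_rank k r hE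
  obtain ⟨hα, he⟩ := mult_euler_of_rank k hL hd1 r hE hd
  have hs := subLE_of_par k hL hd1 hpure r I hI κ hκ hδ hE K hK T hT
  rw [hα, he] at hs
  obtain ⟨h1, h2⟩ := hn n hnn E ⟨hEc, pure1_of_torsionFree k hd1.le hL hpure htf, hs, hα.le, by
    rw [he]; exact neg_abs_le e⟩
  obtain ⟨f⟩ := nonempty_twist_nat hL.1 E n
  exact ⟨(Groth.L22.Reg.subsingleton_congr_iso f 1).1 h1, Groth.L18.Ample.isGloballyGenerated_of_iso f h2⟩

include hL hd1 hpure hI hκ hδ in
theorem par_sectional (a b : ℕ) (d : ℤ) :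
    ∃ n₁ : ℕ, ∀ n : ℕ, n₁ < n → ∀ (E : Y.Modules), FlatMod.IsFinLocFreeOfRank r E → Curv2.deg k Y E r = d →
      ∀ (K : ∀ i, Submodule k (ParSh.fibD Y (I i) E)),
        (∀ i, Module.finrank k (ParSh.fibD Y (I i) E ⧸ K i) = r) →
        ∀ (D : Y.Modules) (T : DecSh.TF E a b D), T.IsParSemistable k I K κ L δ →
          ∀ 𝓕 : DecSh.WFilt E, (∀ i, Coh.IsCoh ((𝓕.piece i : Subobject E) : Y.Modules)) →
            (∑ i, 𝓕.wt i *
              ((DecSh.mult k Y L E : ℚ) *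
                  ((Module.finrank k (Coh.HH Y (ShStab.twist Y L ((𝓕.piece i : Subobject E) : Y.Modules) n) 0) : ℚ) -
                    ((Curv2.euler k Y ((𝓕.piece i : Subobject E) : Y.Modules) : ℚ) -
                      DecSh.parChi k I K κ (𝓕.piece i).arrow)) -
                (DecSh.mult k Y L ((𝓕.piece i : Subobject E) : Y.Modules) : ℚ) *
                  ((Curv2.euler k Y (ShStab.twist Y L E n) : ℚ) -
                    ((Curv2.euler k Y E : ℚ) - DecSh.parChi k I K κ (𝟙 E))))) +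
              δ * T.mu k L 𝓕 ≤ 0 := by
  classical
  haveI : AlgebraicGeometry.IsReduced Y := Groth.L23.isReduced_of_smooth (Y ↘ Spec (CommRingCat.of k))
  let α : ℤ := (r : ℤ) * Curv2.deg k Y L 1
  let e : ℤ := d + (r : ℤ) * Curv2.euler k Y (Coh.structureModule Y)
  let R : ℕ := ⌈δ * (a : ℚ)⌉₊
  obtain ⟨N₀, hN⟩ := exists_dichotomy k hL hd1.le α.toNat (|e| + α * ((R : ℤ) + (r : ℤ) * (ν : ℤ)))
    (e.natAbs + r * ν + R)
  refine ⟨N₀, fun n hn E hE hd K hK D T hT 𝓕 hc => ?_⟩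
  obtain ⟨hEc, htf⟩ := coh_tf_of_rank k r hE
  obtain ⟨hα, he⟩ := mult_euler_of_rank k hL hd1 r hE hd
  have hp := pure1_of_torsionFree k hd1.le hL hpure htf
  have hs := subLE_of_par k hL hd1 hpure r I hI κ hκ hδ hE K hK T hT
  rw [hα, he] at hs
  have hmult := piece_mult k hL hd1.le 𝓕 hEc hp hc
  have hr : 0 < r := by
    by_contra h0
    obtain rfl : r = 0 := by omega
    have := hmult ⟨0, 𝓕.t_pos⟩
    rw [hα] at this
    simp only [Nat.cast_zero, zero_mul] at this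
    omega
  have hm' : ∀ i, DecSh.mult k Y L ((𝓕.piece i : Subobject E) : Y.Modules) ≤ (α.toNat : ℤ) := fun i => by
    have h := (hmult i).2
    rw [hα] at h
    exact h.trans (Int.self_le_toNat α)
  let good : Fin 𝓕.t → Prop := fun i =>
    Subsingleton (Coh.HH Y (ShStab.twist Y L ((𝓕.piece i : Subobject E) : Y.Modules) n) 1)
  refine le_trans (sum_add_mu_le (fun P : Subobject E => Coh.IsCoh (P : Y.Modules)) (DecSh.mult k Y L E)
    (fun P => DecSh.mult k Y L (P : Y.Modules)) (DecSh.parChi k I K κ (𝟙 E)) (fun P => DecSh.parChi k I K κ P.arrow)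
    T.nv (η := 0) hδ.le hT 𝓕 hc (fun i => (hmult i).1) (fun i => (hmult i).2) _ good
    (fun i hi => ?_) (fun i hi => ?_)) (by simp)
  · have hv : ((Module.finrank k (Coh.HH Y (ShStab.twist Y L ((𝓕.piece i : Subobject E) : Y.Modules) n) 0) : ℕ) : ℚ) =
        ((Curv2.euler k Y ((𝓕.piece i : Subobject E) : Y.Modules) +
          (n : ℤ) * DecSh.mult k Y L ((𝓕.piece i : Subobject E) : Y.Modules) : ℤ) : ℚ) := by
      exact_mod_cast h0_twist_of_vanish k hL hd1.le (hc i) hi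
    simp only [hv, euler_twist_eq k hL hd1.le hEc]
    push_cast
    apply le_of_eq
    ring
  · have hb : (Module.finrank k (Coh.HH Y (ShStab.twist Y L ((𝓕.piece i : Subobject E) : Y.Modules) n) 0) : ℤ) ≤
        DecSh.mult k Y L ((𝓕.piece i : Subobject E) : Y.Modules) * n - ((e.natAbs + r * ν + R : ℕ) : ℤ) := by
      rw [h0_twist_eq k hL]
      refine ((hN _ (hc i) (hp.sub k (𝓕.piece i).arrow) (hs.sub k (𝓕.piece i).arrow) (hm' i) n hn.le).resolve_left
        fun h => hi ?_)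
      exact (Groth.L22.Reg.subsingleton_congr_iso (nonempty_twist_nat hL.1 _ n).some 1).1 h
    have hb' := (Int.cast_le (R := ℚ)).2 hb
    simp only [Int.cast_sub, Int.cast_mul, Int.cast_natCast] at hb'
    rw [Nat.cast_add, Nat.cast_add, Nat.cast_mul] at hb'
    obtain ⟨hc0, -⟩ := parWeight_bounds k r I κ hκ hr K hK (𝓕.piece i).arrow
    obtain ⟨-, hcE⟩ := parWeight_bounds k r I κ hκ hr K hK (𝟙 E)
    have hA1 : (1 : ℚ) ≤ (DecSh.mult k Y L ((𝓕.piece i : Subobject E) : Y.Modules) : ℚ) := by exact_mod_cast (hmult i).1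
    have hA2 : (DecSh.mult k Y L ((𝓕.piece i : Subobject E) : Y.Modules) : ℚ) ≤ (DecSh.mult k Y L E : ℚ) := by
      exact_mod_cast (hmult i).2
    have hE0 : -(Curv2.euler k Y E : ℚ) ≤ (e.natAbs : ℚ) := by
      have h9 := (Int.cast_le (R := ℚ)).2 (show -Curv2.euler k Y E ≤ (e.natAbs : ℤ) by rw [he]; omega)
      rwa [Int.cast_neg, Int.cast_natCast] at h9
    have hR : δ * (a : ℚ) ≤ (R : ℚ) := Nat.le_ceil _
    simp only [euler_twist_eq k hL hd1.le hEc]
    push_cast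
    have h4 := mul_le_mul_of_nonneg_left hb' (show (0 : ℚ) ≤ (DecSh.mult k Y L E : ℚ) by linarith)
    have h5 : δ * ((a : ℚ) * ((DecSh.mult k Y L E : ℚ) - 1)) ≤ (R : ℚ) * (DecSh.mult k Y L E : ℚ) := by
      rw [← mul_assoc]
      exact mul_le_mul hR (by linarith) (by linarith) (Nat.cast_nonneg _)
    have h6 : -(DecSh.mult k Y L ((𝓕.piece i : Subobject E) : Y.Modules) : ℚ) * (Curv2.euler k Y E : ℚ) ≤
        (DecSh.mult k Y L E : ℚ) * (e.natAbs : ℚ) := by
      have : (0 : ℚ) ≤ (e.natAbs : ℚ) := Nat.cast_nonneg _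
      nlinarith
    have h7 := mul_le_mul hA2 hcE (by
      have := (parWeight_bounds k r I κ hκ hr K hK (𝟙 E)).1
      linarith) (show (0 : ℚ) ≤ (DecSh.mult k Y L E : ℚ) by linarith)
    have h8 := mul_nonneg (show (0 : ℚ) ≤ (DecSh.mult k Y L E : ℚ) by linarith) hc0
    nlinarith

end Groth.L11.DecBd
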