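import Groth.Agent.L11.DecBd.Unif

/-!
# Very negative submodules have few sections; sectional bounds bound submodules
-/

set_option autoImplicit false
set_option backward.isDefEq.respectTransparency false
set_option linter.style.haveILetI false
set_option linter.unusedSectionVars false

universe u

open CategoryTheory CategoryTheory.Limits AlgebraicGeometry TopologicalSpace

noncomputable section

namespace Groth.L11.DecBd

attribute [local irreducible] Curv2.euler DecSh.mult

variable (k : Type u) [Field k] [IsAlgClosed k] {X : Scheme.{u}} [X.Over (Spec (CommRingCat.of k))]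
  [IsProper (X ↘ Spec (CommRingCat.of k))] {L : X.Modules} (hL : CohB1.IsAmple L)
  (hdim : topologicalKrullDim X ≤ 1)

theorem exists_tw_cokernel {G M : X.Modules} (ι : G ⟶ M) [Mono ι] (j : ℤ) (hL : PicF.IsInvertible L) :
    ∃ f : tw hL G j ⟶ tw hL M j, Mono f ∧ Nonempty (cokernel f ≅ tw hL (cokernel ι) j) := by
  have hS := Groth.L03.Euler.shortExact_tensor (isInvertible_pq hL j.toNat (-j).toNat)
    (S := ShortComplex.mk ι (cokernel.π ι) (cokernel.condition ι)) { exact := ShortComplex.exact_cokernel ι }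
  exact ⟨_, hS.mono_f, ⟨IsColimit.coconePointUniqueUpToIso (cokernelIsCokernel _) hS.gIsCokernel⟩⟩

include hL hdim in
theorem h0_tw_le_add {G M : X.Modules} (hG : Coh.IsCoh G) (hM : Coh.IsCoh M) (ι : G ⟶ M) [Mono ι] (j : ℤ) :
    hh k 0 (tw hL.1 M j) ≤ hh k 0 (tw hL.1 G j) + hh k 0 (tw hL.1 (cokernel ι) j) := by
  haveI := Groth.L21.RR.isNoetherian_of_proper (X := X) k
  obtain ⟨f, hf, ⟨e⟩⟩ := exists_tw_cokernel ι j hL.1
  haveI := hf
  have := h0_le_add' k (isCoh_tw hL.1 hG j) (isCoh_tw hL.1 hM j) f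
  rwa [hh_iso k e] at this

include hL hdim in
/-- Bound on submodules of a quotient. -/
theorem subLE_cokernel {G M : X.Modules} (hG : Coh.IsCoh G) (hM : Coh.IsCoh M) (ι : G ⟶ M) [Mono ι]
    (hp : Pure1 k L (cokernel ι)) {B : ℤ}
    (hB : ∀ (K : X.Modules) (f : K ⟶ M), Mono f → Coh.IsCoh K →
      DecSh.mult k X L G + 1 ≤ DecSh.mult k X L K → Curv2.euler k X K ≤ B) :
    SubLE k (cokernel ι) (B - Curv2.euler k X G) := by
  intro S κ hκ hS h0
  haveI := hκ
  obtain ⟨K, f, hf, hK, hKe, hKm⟩ := exists_preimage k hL hdim hG hM ι hS κ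
  have := hB K f hf hK (by have := hp S κ hκ hS h0; omega)
  omega

theorem not_isZero_of_mult {M : X.Modules} (hL : CohB1.IsAmple L) (h : 1 ≤ DecSh.mult k X L M) : ¬ IsZero M :=
  fun hz => by rw [mult_zero k hL hz] at h; omega

include hL hdim in
/-- A pure module with very negative Euler characteristic and bounded submodules has few sections. -/
theorem exists_small (a : ℕ) : ∀ (C : ℤ) (K : ℕ), ∃ (K' : ℤ) (N₀ : ℕ), 0 ≤ K' ∧ ∀ M : X.Modules, Coh.IsCoh M →
    Pure1 k L M → SubLE k M C → DecSh.mult k X L M ≤ a → Curv2.euler k X M < -K' →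
      ∀ m : ℕ, N₀ ≤ m → (hh k 0 (tw hL.1 M m) : ℤ) ≤ DecSh.mult k X L M * m - K := by
  classical
  induction a with
  | zero =>
    refine fun C K => ⟨0, 0, le_rfl, fun M hM hp hs ha he m _ => ?_⟩
    have := euler_zero k (by_contra fun h0 : ¬ IsZero M => by
      have := hp M (𝟙 M) inferInstance hM h0
      push_cast at ha
      omega)
    omega
  | succ a ih =>
    intro C K
    obtain ⟨c, hc, hstep⟩ := exists_step k hL hdim
    obtain ⟨N, hN⟩ := exists_h0_bound k hL hdim C
    let D : ℤ := (hh k 1 (Coh.structureModule X) : ℤ) + ((a : ℤ) + 1) * (K + c) + 1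
    have hD : 0 ≤ D := by positivity
    obtain ⟨K₁, N₁, hK₁, hih⟩ := ih (|C| + D) (K + (a + 1) * N)
    refine ⟨K₁ + D, max N₁ (K + c), by linarith, fun M hM hp hs ha he m hm => ?_⟩
    have hM0 : ¬ IsZero M := fun h => by
      rw [euler_zero k h] at he
      linarith
    have hα : 1 ≤ DecSh.mult k X L M := hp M (𝟙 M) inferInstance hM hM0
    have hmN : N₁ ≤ m := le_of_max_le_left hm
    have hmK : ((K : ℤ) + c) ≤ m := by exact_mod_cast le_of_max_le_right hm
    by_cases hall : SubLE k M (-D)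
    · have h := hstep M hM ((K : ℤ) + c) (fun j hj => h0_tw_eq_zero k hL hdim hM hp hall fun b hb hb' => by
        have h1 : j * b ≤ ((K : ℤ) + c) * b := mul_le_mul_of_nonneg_right hj (by omega)
        have h2 : ((K : ℤ) + c) * b ≤ ((K : ℤ) + c) * ((a : ℤ) + 1) :=
          mul_le_mul_of_nonneg_left (by push_cast at ha; omega) (by positivity)
        simp only [D]
        linarith) m
      rw [max_eq_left (by linarith)] at h
      nlinarith
    · simp only [SubLE, not_forall, not_le] at hall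
      obtain ⟨S, ι, hι, hS, hS0, hSe⟩ := hall
      haveI := hι
      obtain ⟨H, f, hf, hH, hHm, hHe, hQp⟩ := exists_saturation k hL hdim hS hM ι
      haveI := hf
      have hSm : 1 ≤ DecSh.mult k X L S := hp S ι hι hS hS0
      have hH0 : ¬ IsZero H := not_isZero_of_mult k hL (by omega)
      have hQ := isCoh_cokernel' k hH hM f
      obtain ⟨hadd, hmadd⟩ := add_cokernel k hL hdim hH hM f
      have hQm : DecSh.mult k X L (cokernel f) ≤ a := by push_cast at ha; omega
      have hQs : SubLE k (cokernel f) (|C| + D) := by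
        refine (subLE_cokernel k hL hdim hH hM f hQp (B := C) fun K g hg hK hKm =>
          hs K g hg hK (not_isZero_of_mult k hL (by omega))).mono' k ?_
        have := le_abs_self C
        omega
      have hQe : Curv2.euler k X (cokernel f) < -K₁ := by omega
      have h1 := hih (cokernel f) hQ hQp hQs hQm hQe m hmN
      have h2 := hN H hH (hp.sub k f) (hs.sub k f) m
      have h3 : (hh k 0 (tw hL.1 M m) : ℤ) ≤ hh k 0 (tw hL.1 H m) + hh k 0 (tw hL.1 (cokernel f) m) := by
        exact_mod_cast h0_tw_le_add k hL hdim hH hM f m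
      have h4 : DecSh.mult k X L H * N ≤ ((a : ℤ) + 1) * N := by
        refine mul_le_mul_of_nonneg_right ?_ (Int.natCast_nonneg N)
        have := mult_le' k hL hdim f hH hM
        push_cast at ha
        linarith
      rw [hmadd]
      push_cast at h1
      linarith

include hL hdim in
/-- Either `H¹` of a twist vanishes or the twist has few sections. -/
theorem exists_dichotomy (a : ℕ) (C : ℤ) (K : ℕ) : ∃ N₀ : ℕ, ∀ M : X.Modules, Coh.IsCoh M → Pure1 k L M →
    SubLE k M C → DecSh.mult k X L M ≤ a → ∀ m : ℕ, N₀ ≤ m →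
      Subsingleton (Coh.HH X (tw hL.1 M m) 1) ∨ (hh k 0 (tw hL.1 M m) : ℤ) ≤ DecSh.mult k X L M * m - K := by
  obtain ⟨K', N₁, -, h1⟩ := exists_small k hL hdim a C K
  obtain ⟨N₂, h2⟩ := exists_vanish_gg k hL hdim a C K'
  refine ⟨max N₁ N₂, fun M hM hp hs ha m hm => ?_⟩
  by_cases he : Curv2.euler k X M < -K'
  · exact Or.inr (h1 M hM hp hs ha he m (le_of_max_le_left hm))
  · exact Or.inl (h2 m (le_of_max_le_right hm) M ⟨hM, hp, hs, ha, not_lt.1 he⟩).1

include hL hdim in
/-- Lower bounds for the sections of quotients bound submodules. -/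
theorem exists_sub_bound (α : ℕ) (e : ℤ) (R : ℕ) : ∃ N₁ : ℕ, ∃ B : ℤ, ∀ (F : X.Modules), Coh.IsCoh F →
    DecSh.mult k X L F = α → Curv2.euler k X F = e → ∀ m : ℕ, N₁ ≤ m →
    (∀ (G : X.Modules) (ι : G ⟶ F), Mono ι → Coh.IsCoh G → ¬ IsZero G → ¬ IsIso ι →
      DecSh.mult k X L (cokernel ι) * (e + m * (α : ℤ) - R) ≤ (α : ℤ) * hh k 0 (tw hL.1 (cokernel ι) m)) →
    SubLE k F B := by
  classical
  obtain ⟨c, hc, hstep⟩ := exists_step k hL hdim
  let N₁ : ℕ := c + e.natAbs + R + 1
  refine ⟨N₁, ?_⟩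
  suffices h : ∀ j : ℕ, ∃ B : ℤ, 0 ≤ B ∧ ∀ (F : X.Modules), Coh.IsCoh F →
      DecSh.mult k X L F = α → Curv2.euler k X F = e → ∀ m : ℕ, N₁ ≤ m →
      (∀ (G : X.Modules) (ι : G ⟶ F), Mono ι → Coh.IsCoh G → ¬ IsZero G → ¬ IsIso ι →
        DecSh.mult k X L (cokernel ι) * (e + m * (α : ℤ) - R) ≤ (α : ℤ) * hh k 0 (tw hL.1 (cokernel ι) m)) →
      ∀ (G : X.Modules) (ι : G ⟶ F), Mono ι → Coh.IsCoh G →
        (α : ℤ) - j ≤ DecSh.mult k X L G → Curv2.euler k X G ≤ B by
    obtain ⟨B, -, hB⟩ := h α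
    exact ⟨B, fun F hF hFm hFe m hm hq G ι hι hG _ =>
      hB F hF hFm hFe m hm hq G ι hι hG (by have := mult_nonneg' k hL hdim hG; omega)⟩
  intro j
  induction j with
  | zero =>
    refine ⟨|e|, abs_nonneg e, fun F hF hFm hFe m _ _ G ι hι hG hGm => ?_⟩
    haveI := hι
    obtain ⟨h1, h2⟩ := add_cokernel k hL hdim hG hF ι
    have h3 := mult_le' k hL hdim ι hG hF
    have h4 := euler_nonneg_of_mult_zero k hL hdim (isCoh_cokernel' k hG hF ι) (by push_cast at hGm; omega)
    have := le_abs_self e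
    omega
  | succ j ih =>
    obtain ⟨B, hB0, hB⟩ := ih
    let D : ℤ := (hh k 1 (Coh.structureModule X) : ℤ) + (N₁ : ℤ) * α + 1
    have hD : 0 ≤ D := by positivity
    refine ⟨B + D, by linarith, fun F hF hFm hFe m hm hq G ι hι hG hGm => ?_⟩
    haveI := hι
    by_cases hlt : (α : ℤ) - j ≤ DecSh.mult k X L G
    · linarith [hB F hF hFm hFe m hm hq G ι hι hG hlt]
    by_contra hbig
    rw [not_le] at hbig
    obtain ⟨H, f, hf, hH, hHm, hHe, hQp⟩ := exists_saturation k hL hdim hG hF ι
    haveI := hf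
    have hQ := isCoh_cokernel' k hH hF f
    obtain ⟨hadd, hmadd⟩ := add_cokernel k hL hdim hH hF f
    have hH0 : ¬ IsZero H := fun h => by rw [euler_zero k h] at hHe; linarith
    have hni : ¬ IsIso f := fun hiso => by
      have := mult_iso k (L := L) (asIso f)
      push_cast at hGm hlt
      omega
    have hs : SubLE k (cokernel f) (-D) := by
      refine (subLE_cokernel k hL hdim hH hF f hQp (B := B) fun K g hg hK hKm =>
        hB F hF hFm hFe m hm hq K g hg hK (by push_cast at hGm; omega)).mono' k (by omega)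
    have h := hstep (cokernel f) hQ (N₁ : ℤ) (fun i hi => h0_tw_eq_zero k hL hdim hQ hQp hs fun b hb hb' => by
      have h1 : i * b ≤ (N₁ : ℤ) * b := mul_le_mul_of_nonneg_right hi (by omega)
      have h2 : (N₁ : ℤ) * b ≤ (N₁ : ℤ) * α := by
        refine mul_le_mul_of_nonneg_left ?_ (Int.natCast_nonneg _)
        have := mult_nonneg' k hL hdim hH
        omega
      simp only [D]
      linarith) m
    rw [max_eq_left (by omega)] at h
    have hq' := hq H f hf hH hH0 hni
    have hQ1 : 1 ≤ DecSh.mult k X L (cokernel f) := by push_cast at hlt; omega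
    have hα : (1 : ℤ) ≤ α := by
      have := mult_nonneg' k hL hdim hH
      omega
    have h5 : (α : ℤ) * hh k 0 (tw hL.1 (cokernel f) m) ≤
        (α : ℤ) * (DecSh.mult k X L (cokernel f) * ((m : ℤ) - N₁ + c)) :=
      mul_le_mul_of_nonneg_left h (Int.natCast_nonneg α)
    have h6 : e + m * (α : ℤ) - R ≤ (α : ℤ) * ((m : ℤ) - N₁ + c) := by
      refine le_of_mul_le_mul_left ?_ (show (0 : ℤ) < DecSh.mult k X L (cokernel f) by omega)
      linarith
    have h7 : (e.natAbs : ℤ) + R + 1 ≤ (α : ℤ) * ((e.natAbs : ℤ) + R + 1) :=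
      le_mul_of_one_le_left (by positivity) hα
    have h8 : (N₁ : ℤ) = c + e.natAbs + R + 1 := by simp only [N₁]; push_cast; rfl
    rw [h8] at h6
    have h9 : -e ≤ (e.natAbs : ℤ) := by omega
    linarith

end Groth.L11.DecBd
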