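import Groth.Agent.L11.DecBd.Sub
import Groth.Agent.L11.Slope.Main
import Groth.Agent.L22.Reg.ClosedQuot
import Groth.Agent.L11.Bdd.TopThree
import Groth.Agent.L11.NumOrth.Hyperplane
import Groth.Agent.L03.SurfAdj.Embed

/-!
# The hyperplane step in dimension one
-/

set_option autoImplicit false
set_option backward.isDefEq.respectTransparency false
set_option linter.style.haveILetI false
set_option linter.unusedSectionVars false

universe u

open CategoryTheory CategoryTheory.Limits AlgebraicGeometry TopologicalSpace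

noncomputable section

namespace Groth.L11.DecBd

open Groth.L22.Reg Groth.L16
open Groth.L11.NumOrth (OX)
open Groth.L16.CohLinear (exact_hmap_hmap overLin hmap)

attribute [local irreducible] Curv2.euler DecSh.mult

variable (k : Type u) [Field k] [Infinite k] {X : Scheme.{u}} [X.Over (Spec (CommRingCat.of k))]
  [IsProper (X ↘ Spec (CommRingCat.of k))] {L : X.Modules} {n c : ℕ} (i : X ⟶ CohB1.ProjSpace n k)
  [IsClosedImmersion i] (hi : i ≫ CohB1.ProjSpace.toSpec n k = X ↘ Spec (CommRingCat.of k))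
  (hL : CohB1.IsAmple L) (hdim : topologicalKrullDim X ≤ 1)
  (e : (Scheme.Modules.pullback i).obj (Twist.twistProjSpace n k 1) ≅ CohB1.tensorPow L c)

include e in
theorem nonempty_twistOn_tw (M : X.Modules) (q : ℕ) :
    Nonempty (Pic13.twistOn k i M (q : ℤ) ≅ tw hL.1 M ((c * q : ℕ) : ℤ)) := by
  obtain ⟨a⟩ := Groth.L11.NumOrth.nonempty_pow_OX i q
  obtain ⟨b⟩ := nonempty_twist_nat hL.1 M (c * q)
  exact ⟨Groth.L00.Tensor.tensorIso (Iso.refl M)
    (a.symm ≪≫ Groth.L00.Tensor.tensorPowIso e q ≪≫ Groth.L00.Tensor.tensorPowMul L c q) ≪≫ b.symm⟩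

include hdim in
theorem dim_push_le (M : X.Modules) :
    topologicalKrullDim (CohB1.support ((Coh.push i).obj M)) ≤ ((0 + 1 : ℕ) : WithBot ℕ∞) := by
  refine (Groth.L03.Euler.topologicalKrullDim_set_mono (CohClosedPush.support_push_subset i M)).trans ?_
  exact le_trans (i.isClosedEmbedding.isEmbedding.toHomeomorph.symm.isInducing.topologicalKrullDim_le) (by simpa using hdim)

/-- The hyperplane sequence of a coherent module. -/
theorem exists_hyperplane {M : X.Modules} (hM : Coh.IsCoh M) (hdim : topologicalKrullDim X ≤ 1) :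
    ∃ (ι : CohB1.tensorMod ((Coh.push i).obj M) (Twist.twistProjSpace n k (-1)) ⟶ (Coh.push i).obj M) (_ : Mono ι),
      Coh.IsCoh (cokernel ι) ∧ topologicalKrullDim (CohB1.support (cokernel ι)) ≤ ((0 : ℕ) : WithBot ℕ∞) := by
  haveI := isProper_over_proj (k := k) (n := n)
  haveI := Groth.L11.Slope.noetherian_proj (k := k) (n := n)
  have hG := isCoh_push_closed i hM
  haveI := hG.1
  have hd := dim_push_le k i hdim M
  obtain ⟨ℓ, hℓ⟩ := exists_form_avoiding (n := n) (k := k)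
    ((Groth.L22.EnrSev.finite_setOf_isAssPoint hG.2).union
      (Groth.L22.Inter.finite_top (CohSupport.isClosed_support _ hG.2) hd))
  haveI : Mono (mu (sigmaF ℓ) ((Coh.push i).obj M)) := mono_mu_sigmaF hG ℓ fun x hx => hℓ x (Or.inl hx)
  exact ⟨mu (sigmaF ℓ) ((Coh.push i).obj M), inferInstance,
    (CohKernel.isCoh_kernel_cokernel (Groth.L22.Reg.isCoh_tw hG (-1)) hG _).2,
    Groth.L11.Slope.dim_coker_le hG hd ℓ fun x hx hxd => hℓ x (Or.inr ⟨hx, hxd⟩)⟩

theorem regular_dim_zero {Q : (CohB1.ProjSpace n k).Modules} (hQ : Coh.IsCoh Q)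
    (hd : topologicalKrullDim (CohB1.support Q) ≤ ((0 : ℕ) : WithBot ℕ∞)) (m : ℤ) : Regular Q m :=
  fun _ hq => Groth.L11.Slope.subsingleton_above_dim hQ hd hq _

include hi hdim e in
/-- Sections grow by at most `c·α` per step. -/
theorem h0_tw_succ_le {M : X.Modules} (hM : Coh.IsCoh M) (j : ℤ) :
    (hh k 0 (tw hL.1 M (j + c)) : ℤ) ≤ hh k 0 (tw hL.1 M j) + c * DecSh.mult k X L M := by
  haveI := isProper_over_proj (k := k) (n := n)
  haveI := Groth.L21.RR.isNoetherian_of_proper (X := X) k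
  let N := tw hL.1 M j
  have hN : Coh.IsCoh N := DecBd.isCoh_tw hL.1 hM j
  have hG := isCoh_push_closed i hN
  obtain ⟨ι, hι, hQ, hdQ⟩ := exists_hyperplane k i hN hdim
  haveI := hι
  have hreg := regular_dim_zero k hQ hdQ
  have hto : ∀ t : ℤ, h0t ((Coh.push i).obj N) t = hh k 0 (Pic13.twistOn k i N t) := fun t => by
    obtain ⟨a⟩ := nonempty_push_twist i N t
    obtain ⟨φ⟩ := nonempty_HH_twist i hi hN t 0
    rw [h0t_eq]
    exact (Groth.L21.RR.h_congr k a 0).trans φ.finrank_eq.symm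
  obtain ⟨a0⟩ := Groth.L11.NumOrth.nonempty_twist_zero i N
  obtain ⟨a1⟩ := nonempty_twistOn_tw k i hL e N 1
  obtain ⟨a2⟩ := nonempty_tw_tw hL.1 M j ((c * 1 : ℕ) : ℤ)
  let b1 : Pic13.twistOn k i N (1 : ℤ) ≅ tw hL.1 M (j + c) :=
    eqToIso (by simp) ≪≫ a1 ≪≫ a2 ≪≫ eqToIso (by simp)
  have h0 : h0t ((Coh.push i).obj N) 0 = hh k 0 (tw hL.1 M j) := (hto 0).trans (hh_iso k a0)
  have h1 : h0t ((Coh.push i).obj N) 1 = hh k 0 (tw hL.1 M (j + c)) := (hto 1).trans (hh_iso k b1)
  have hq : (h0t (cokernel ι) 1 : ℤ) = chiP (cokernel ι) 1 := by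
    rw [h0t_eq, chiP_eq, Groth.L03.Euler.euler_eq_sum (N := 1)
      (fun q hq => Groth.L11.Slope.subsingleton_above_dim hQ hdQ hq 1), Finset.sum_range_one]
    simp
  have hchi : chiP (cokernel ι) 1 = c * DecSh.mult k X L M := by
    rw [chiP_hyp hG, show (1 : ℤ) - 1 = 0 by ring, chiP_push i hi hN, chiP_push i hi hN,
      euler_iso' k a0, euler_iso' k b1]
    show Curv2.euler k X (tw hL.1 M (j + c)) - Curv2.euler k X (tw hL.1 M j) = _
    rw [euler_tw hL.1 k hdim hM, euler_tw hL.1 k hdim hM]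
    ring
  have key : h0t ((Coh.push i).obj N) 1 ≤ h0t ((Coh.push i).obj N) 0 + h0t (cokernel ι) 1 := by
    obtain ⟨a⟩ := nonempty_hypTw_X₁ ι 1
    have hS := hypTw_shortExact ι 1
    haveI : Module.Finite k (Coh.HH (CohB1.ProjSpace n k) (hypTw ι 1).X₃ 0) := finite_h0 hQ 1
    haveI : Module.Finite k (Coh.HH (CohB1.ProjSpace n k) (hypTw ι 1).X₁ 0) :=
      Groth.L16.ProperFinite.finite_HH k (CohSupport.isCoh_of_iso a.symm (Groth.L22.Reg.isCoh_tw hG _)) 0
    haveI : Module.Finite k (Coh.HH (CohB1.ProjSpace n k) (hypTw ι 1).X₂ 0) := finite_h0 hG 1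
    let f := overLin k (hmap (hypTw ι 1).f 0)
    let g := overLin k (hmap (hypTw ι 1).g 0)
    have he : Function.Exact f g := exact_hmap_hmap hS 0
    have r := g.finrank_range_add_finrank_ker
    rw [LinearMap.exact_iff.1 he] at r
    have r1 := Submodule.finrank_le (LinearMap.range g)
    have r2 := f.finrank_range_add_finrank_ker
    have e1 : Module.finrank k (Coh.HH (CohB1.ProjSpace n k) (hypTw ι 1).X₁ 0) = h0t ((Coh.push i).obj N) 0 := by
      rw [h0t_eq]
      exact (Groth.L21.RR.h_congr k a 0).trans (by rw [show (1 : ℤ) - 1 = 0 by ring])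
    have e2 : Module.finrank k (Coh.HH (CohB1.ProjSpace n k) (hypTw ι 1).X₂ 0) = h0t ((Coh.push i).obj N) 1 :=
      (h0t_def _ _).symm
    have e3 : Module.finrank k (Coh.HH (CohB1.ProjSpace n k) (hypTw ι 1).X₃ 0) = h0t (cokernel ι) 1 :=
      (h0t_def _ _).symm
    omega
  omega

include hi hdim in
/-- Small `h¹` gives regularity. -/
theorem regular_of_h1_le {M : X.Modules} (hM : Coh.IsCoh M) {B : ℕ} (hB : hh k 1 M ≤ B) :
    Pic13.IsMRegular k i M ((B : ℤ) + 1) := by
  haveI := isProper_over_proj (k := k) (n := n)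
  have hG := isCoh_push_closed i hM
  obtain ⟨ι, hι, hQ, hdQ⟩ := exists_hyperplane k i hM hdim
  haveI := hι
  have h := regular_hyp ι hG (regular_dim_zero k hQ hdQ 1)
  rw [show (1 : ℤ) - 1 = 0 by ring, ← h1_push i hi hM] at h
  obtain ⟨a0⟩ := Groth.L11.NumOrth.nonempty_twist_zero i M
  refine (regular_push_iff i hi hM).2 (h.of_le ?_)
  have := hh_iso k (q := 1) a0
  simp only [hh] at this hB
  omega

include hi hdim e in
/-- Small `h¹` gives vanishing and global generation of the large twists by multiples of `c`. -/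
theorem vanish_gg_of_h1_le {M : X.Modules} (hM : Coh.IsCoh M) {B : ℕ} (hB : hh k 1 M ≤ B) (q : ℕ) (hq : B + 1 ≤ q) :
    Subsingleton (Coh.HH X (tw hL.1 M ((c * q : ℕ) : ℤ)) 1) ∧
      Curv2.IsGloballyGenerated (tw hL.1 M ((c * q : ℕ) : ℤ)) := by
  have h := regular_of_h1_le k i hi hdim hM hB
  have hr := (regular_push_iff i hi hM).1 h
  have h' : Pic13.IsMRegular k i M (q : ℤ) :=
    (regular_push_iff i hi hM).2 (hr.of_le (by exact_mod_cast hq))
  obtain ⟨a⟩ := nonempty_twistOn_tw k i hL e M q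
  refine ⟨?_, ?_⟩
  · have h'' := ((regular_push_iff i hi hM).2 (hr.of_le (show (B : ℤ) + 1 ≤ (q : ℤ) + 1 by omega))) 1 le_rfl
    rw [show (q : ℤ) + 1 - ((1 : ℕ) : ℤ) = (q : ℤ) by push_cast; ring] at h''
    exact (Groth.L22.Reg.subsingleton_congr_iso a 1).1 h''
  · exact Groth.L18.Ample.isGloballyGenerated_of_iso a (Groth.L11.Bdd.Gen.gg_of_regular i hi hM h')

end Groth.L11.DecBd
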