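import Groth.Agent.L11.DecBd.Twist

/-!
# Submodules of coherent modules in dimension one: Euler characteristic, multiplicity, sections
-/

set_option autoImplicit false
set_option backward.isDefEq.respectTransparency false
set_option linter.style.haveILetI false
set_option linter.unusedSectionVars false

universe u

open CategoryTheory CategoryTheory.Limits AlgebraicGeometry Polynomial

noncomputable section

namespace Groth.L11.DecBd

open Groth.L16.CohLinear (hmap overLin exact_hmap_hmap exact_hmap_delta)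

attribute [local irreducible] Curv2.euler DecSh.mult

variable (k : Type u) [Field k] {X : Scheme.{u}} [X.Over (Spec (CommRingCat.of k))]
  [IsProper (X ↘ Spec (CommRingCat.of k))] {L : X.Modules}

/-- The dimension of a cohomology space. -/
abbrev hh (q : ℕ) (M : X.Modules) : ℕ := Module.finrank k (Coh.HH X M q)

/-- Every nonzero coherent submodule has positive multiplicity. -/
def Pure1 (L M : X.Modules) : Prop :=
  ∀ (G : X.Modules) (ι : G ⟶ M), Mono ι → Coh.IsCoh G → ¬ IsZero G → 1 ≤ DecSh.mult k X L G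

/-- Every nonzero coherent submodule has Euler characteristic at most `C`. -/
def SubLE (M : X.Modules) (C : ℤ) : Prop :=
  ∀ (G : X.Modules) (ι : G ⟶ M), Mono ι → Coh.IsCoh G → ¬ IsZero G → Curv2.euler k X G ≤ C

variable (hL : CohB1.IsAmple L) (hdim : topologicalKrullDim X ≤ 1)

theorem hh_iso {q : ℕ} {M N : X.Modules} (e : M ≅ N) : hh k q M = hh k q N := Groth.L21.RR.h_congr k e q

include hdim in
theorem euler_eq' (M : X.Modules) : Curv2.euler k X M = (hh k 0 M : ℤ) - hh k 1 M := Groth.L21.RR.euler_eq k hdim M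

theorem euler_zero {M : X.Modules} (h : IsZero M) : Curv2.euler k X M = 0 := Groth.L03.Euler.euler_of_isZero h

include hL in
theorem mult_zero {M : X.Modules} (h : IsZero M) : DecSh.mult k X L M = 0 := by
  unfold DecSh.mult
  rw [euler_zero k h, euler_zero k (show IsZero (CohB1.tensorMod M L) from (Groth.L00.Tensor.tensorRightF L).map_isZero h), sub_zero]

include k in
theorem isCoh_cokernel' {G M : X.Modules} (hG : Coh.IsCoh G) (hM : Coh.IsCoh M) (ι : G ⟶ M) :
    Coh.IsCoh (cokernel ι) := by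
  haveI := Groth.L21.RR.isNoetherian_of_proper (X := X) k
  haveI : Coh.IsQCoh M := hM.1
  exact (Groth.L16.CohKernel.isCoh_kernel_cokernel hG hM ι).2

include k in
theorem isCoh_kernel' {M Q : X.Modules} (hM : Coh.IsCoh M) (hQ : Coh.IsCoh Q) (π : M ⟶ Q) :
    Coh.IsCoh (kernel π) := by
  haveI := Groth.L21.RR.isNoetherian_of_proper (X := X) k
  haveI : Coh.IsQCoh Q := hQ.1
  exact (Groth.L16.CohKernel.isCoh_kernel_cokernel hM hQ π).1

include hL hdim in
theorem add_cokernel {G M : X.Modules} (hG : Coh.IsCoh G) (hM : Coh.IsCoh M) (ι : G ⟶ M) [Mono ι] :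
    Curv2.euler k X M = Curv2.euler k X G + Curv2.euler k X (cokernel ι) ∧
      DecSh.mult k X L M = DecSh.mult k X L G + DecSh.mult k X L (cokernel ι) := by
  have hS : (ShortComplex.mk ι (cokernel.π ι) (cokernel.condition _)).ShortExact :=
    { exact := ShortComplex.exact_cokernel ι }
  exact ⟨Groth.L21.RR.euler_add k hdim hS hG hM (isCoh_cokernel' k hG hM ι),
    Groth.L13.DecBound.mult_add hL hS hG hM (isCoh_cokernel' k hG hM ι)⟩

include hL hdim in
theorem add_kernel {M Q : X.Modules} (hM : Coh.IsCoh M) (hQ : Coh.IsCoh Q) (π : M ⟶ Q) [Epi π] :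
    Curv2.euler k X M = Curv2.euler k X (kernel π) + Curv2.euler k X Q ∧
      DecSh.mult k X L M = DecSh.mult k X L (kernel π) + DecSh.mult k X L Q := by
  have hS : (ShortComplex.mk (kernel.ι π) π (kernel.condition _)).ShortExact :=
    { exact := ShortComplex.exact_kernel π }
  exact ⟨Groth.L21.RR.euler_add k hdim hS (isCoh_kernel' k hM hQ π) hM hQ,
    Groth.L13.DecBound.mult_add hL hS (isCoh_kernel' k hM hQ π) hM hQ⟩

theorem h0_le_of_mono {G M : X.Modules} (hM : Coh.IsCoh M) (ι : G ⟶ M) [Mono ι] : hh k 0 G ≤ hh k 0 M :=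
  haveI := Groth.L21.RR.finite_HH' k hM 0
  LinearMap.finrank_le_finrank_of_injective (f := overLin k (hmap ι 0)) (Groth.L21.RR.injective_hmap_zero ι)

theorem h0_le_add' {G M : X.Modules} (hG : Coh.IsCoh G) (hM : Coh.IsCoh M) (ι : G ⟶ M) [Mono ι] :
    hh k 0 M ≤ hh k 0 G + hh k 0 (cokernel ι) := by
  have hS : (ShortComplex.mk ι (cokernel.π ι) (cokernel.condition _)).ShortExact :=
    { exact := ShortComplex.exact_cokernel ι }
  haveI := Groth.L21.RR.finite_HH' k hG 0
  haveI := Groth.L21.RR.finite_HH' k hM 0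
  haveI := Groth.L21.RR.finite_HH' k (isCoh_cokernel' k hG hM ι) 0
  let f := overLin k (hmap ι 0)
  let g := overLin k (hmap (cokernel.π ι) 0)
  have he : Function.Exact f g := exact_hmap_hmap hS 0
  have r := g.finrank_range_add_finrank_ker
  rw [LinearMap.exact_iff.1 he] at r
  have r1 := Submodule.finrank_le (LinearMap.range g)
  have r2 := f.finrank_range_add_finrank_ker
  change hh k 0 M ≤ _
  simp only [hh]
  omega

include hdim in
theorem h1_le_of_epi {M Q : X.Modules} (hM : Coh.IsCoh M) (π : M ⟶ Q) [Epi π] : hh k 1 Q ≤ hh k 1 M := by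
  haveI := Groth.L21.RR.isNoetherian_of_proper (X := X) k
  haveI := Groth.L21.RR.finite_HH' k hM 1
  refine LinearMap.finrank_le_finrank_of_surjective (f := overLin k (hmap π 1)) fun y => ?_
  exact (exact_hmap_delta (S := ShortComplex.mk (kernel.ι π) π (kernel.condition _))
    { exact := ShortComplex.exact_kernel π } 1 y).1 ((Groth.L21.RR.subsingleton_HH_two hdim _ 0).elim _ _)

theorem subsingleton_of_hh {M : X.Modules} (hM : Coh.IsCoh M) {q : ℕ} (h : hh k q M = 0) :
    Subsingleton (Coh.HH X M q) :=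
  haveI := Groth.L21.RR.finite_HH' k hM q
  Module.finrank_zero_iff.1 h

theorem hh_of_subsingleton {M : X.Modules} {q : ℕ} (h : Subsingleton (Coh.HH X M q)) : hh k q M = 0 :=
  Module.finrank_zero_of_subsingleton

include hL hdim in
/-- A nonzero module of multiplicity zero has positive Euler characteristic. -/
theorem euler_pos_of_mult_zero {M : X.Modules} (hM : Coh.IsCoh M) (h0 : ¬ IsZero M)
    (hm : DecSh.mult k X L M = 0) : 1 ≤ Curv2.euler k X M := by
  have hd : topologicalKrullDim (CohB1.support M) ≤ ((1 : ℕ) : WithBot ℕ∞) :=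
    (Topology.IsInducing.subtypeVal.topologicalKrullDim_le).trans hdim
  obtain ⟨P, hdeg, hP⟩ := Groth.L03.Euler.exists_isHilbPoly (k := k) hL.1 hM hd
  have hlead := Groth.L03.ShStab.Basic.leadingCoeff_pos hL hM h0 hd hP
  have hc := Groth.L13.DecBound.mult_eq_coeff hdeg hP
  rw [hm, Int.cast_zero] at hc
  have hdeg0 : P = C (P.coeff 0) := by
    conv_lhs => rw [Polynomial.eq_X_add_C_of_natDegree_le_one hdeg, ← hc, C_0, zero_mul, zero_add]
  rw [hdeg0, leadingCoeff_C] at hlead
  have h := hP 0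
  rw [Groth.L03.Euler.euler_twist_zero, hdeg0, eval_C] at h
  rw [← h] at hlead
  exact_mod_cast hlead

include hL hdim in
theorem euler_nonneg_of_mult_zero {M : X.Modules} (hM : Coh.IsCoh M) (hm : DecSh.mult k X L M = 0) :
    0 ≤ Curv2.euler k X M := by
  by_cases h0 : IsZero M
  · rw [euler_zero k h0]
  · have := euler_pos_of_mult_zero k hL hdim hM h0 hm
    omega

include hL hdim in
theorem mult_nonneg' {M : X.Modules} (hM : Coh.IsCoh M) : 0 ≤ DecSh.mult k X L M :=
  Groth.L13.DecBound.mult_nonneg hL hdim hM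

include hL hdim in
theorem mult_le' {G M : X.Modules} (ι : G ⟶ M) [Mono ι] (hG : Coh.IsCoh G) (hM : Coh.IsCoh M) :
    DecSh.mult k X L G ≤ DecSh.mult k X L M :=
  Groth.L13.DecBound.mult_le hL hdim ι hG hM

theorem Pure1.sub {G M : X.Modules} (h : Pure1 k L M) (ι : G ⟶ M) [Mono ι] : Pure1 k L G :=
  fun S κ hκ hS h0 => haveI := hκ; h S (κ ≫ ι) (mono_comp _ _) hS h0

theorem SubLE.sub {G M : X.Modules} {C : ℤ} (h : SubLE k M C) (ι : G ⟶ M) [Mono ι] : SubLE k G C :=
  fun S κ hκ hS h0 => haveI := hκ; h S (κ ≫ ι) (mono_comp _ _) hS h0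

theorem SubLE.mono' {M : X.Modules} {C C' : ℤ} (h : SubLE k M C) (hC : C ≤ C') : SubLE k M C' :=
  fun S κ hκ hS h0 => (h S κ hκ hS h0).trans hC

include hdim in
theorem pure1_of_torsionFree [AlgebraicGeometry.IsReduced X] (hL : CohB1.IsAmple L)
    (hpure : ∀ x : X, ¬ IsOpen ({x} : Set X)) {M : X.Modules} (htf : TorSh.IsTorsionFree M) : Pure1 k L M :=
  fun G ι hι hG h0 => haveI := hι
    Groth.L13.DecBound.mult_pos hL hdim hpure hG (Groth.L13.DecBound.isTorsionFree_sub' ι htf) h0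

include hL hdim in
theorem Pure1.tw {M : X.Modules} (h : Pure1 k L M) (j : ℤ) : Pure1 k L (DecBd.tw hL.1 M j) := by
  intro G ι hι hG h0
  haveI := hι
  haveI := Groth.L21.RR.isNoetherian_of_proper (X := X) k
  obtain ⟨f, hf⟩ := exists_mono_tw hL.1 ι (-j)
  obtain ⟨e⟩ := nonempty_tw_tw hL.1 M j (-j)
  obtain ⟨e0⟩ := nonempty_tw_zero hL.1 M
  have := h _ (f ≫ (e ≪≫ eqToIso (by rw [add_neg_cancel]) ≪≫ e0).hom) (by infer_instance) (isCoh_tw hL.1 hG _)
    (fun hz => h0 (isZero_of_tw hL.1 _ hz))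
  rwa [mult_tw hL.1 k hdim hG] at this

include hL hdim in
theorem SubLE.tw {M : X.Modules} (hM : Coh.IsCoh M) {C : ℤ} (h : SubLE k M C) (j : ℤ) :
    SubLE k (DecBd.tw hL.1 M j) (C + |j| * DecSh.mult k X L M) := by
  intro G ι hι hG h0
  haveI := hι
  haveI := Groth.L21.RR.isNoetherian_of_proper (X := X) k
  obtain ⟨f, hf⟩ := exists_mono_tw hL.1 ι (-j)
  obtain ⟨e⟩ := nonempty_tw_tw hL.1 M j (-j)
  obtain ⟨e0⟩ := nonempty_tw_zero hL.1 M
  have := h _ (f ≫ (e ≪≫ eqToIso (by rw [add_neg_cancel]) ≪≫ e0).hom) (by infer_instance) (isCoh_tw hL.1 hG _)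
    (fun hz => h0 (isZero_of_tw hL.1 _ hz))
  rw [euler_tw hL.1 k hdim hG] at this
  have h1 := mult_le' k hL hdim ι hG (isCoh_tw hL.1 hM j)
  rw [mult_tw hL.1 k hdim hM] at h1
  have h2 := mult_nonneg' k hL hdim hG
  have h3 : j * DecSh.mult k X L G ≤ |j| * DecSh.mult k X L M :=
    (mul_le_mul_of_nonneg_right (le_abs_self j) h2).trans (mul_le_mul_of_nonneg_left h1 (abs_nonneg j))
  linarith

include hL hdim in
/-- The preimage of a submodule of a quotient. -/
theorem exists_preimage {G M S : X.Modules} (hG : Coh.IsCoh G) (hM : Coh.IsCoh M) (ι : G ⟶ M) [Mono ι]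
    (hS : Coh.IsCoh S) (κ : S ⟶ cokernel ι) [Mono κ] :
    ∃ (K : X.Modules) (f : K ⟶ M), Mono f ∧ Coh.IsCoh K ∧
      Curv2.euler k X K = Curv2.euler k X G + Curv2.euler k X S ∧
      DecSh.mult k X L K = DecSh.mult k X L G + DecSh.mult k X L S := by
  have hQ := isCoh_cokernel' k hG hM ι
  have hR := isCoh_cokernel' k hS hQ κ
  haveI : Epi (cokernel.π ι ≫ cokernel.π κ) := epi_comp _ _
  refine ⟨kernel (cokernel.π ι ≫ cokernel.π κ), kernel.ι _, inferInstance, isCoh_kernel' k hM hR _, ?_⟩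
  have a := add_cokernel k hL hdim hG hM ι
  have b := add_cokernel k hL hdim hS hQ κ
  have c := add_kernel k hL hdim hM hR (cokernel.π ι ≫ cokernel.π κ)
  omega

include hL hdim in
/-- Saturation: enlarge a submodule without changing its multiplicity until the quotient is pure. -/
theorem exists_saturation {G M : X.Modules} (hG : Coh.IsCoh G) (hM : Coh.IsCoh M) (ι : G ⟶ M) [Mono ι] :
    ∃ (H : X.Modules) (f : H ⟶ M) (_ : Mono f), Coh.IsCoh H ∧ DecSh.mult k X L H = DecSh.mult k X L G ∧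
      Curv2.euler k X G ≤ Curv2.euler k X H ∧ Pure1 k L (cokernel f) := by
  let P : ℤ → Prop := fun z => ∃ (H : X.Modules) (f : H ⟶ M), Mono f ∧ Coh.IsCoh H ∧
    DecSh.mult k X L H = DecSh.mult k X L G ∧ Curv2.euler k X H = z
  have hb : ∀ z, P z → z ≤ (hh k 0 M : ℤ) := by
    rintro z ⟨H, f, hf, hH, -, rfl⟩
    haveI := hf
    have h1 := h0_le_of_mono k hM f
    have h2 := euler_eq' k hdim H
    omega
  obtain ⟨z, ⟨H, f, hf, hH, hm, hz⟩, hmax⟩ :=
    Int.exists_greatest_of_bdd (P := P) ⟨_, hb⟩ ⟨_, G, ι, inferInstance, hG, rfl, rfl⟩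
  haveI := hf
  refine ⟨H, f, hf, hH, hm, hz ▸ hmax _ ⟨G, ι, inferInstance, hG, rfl, rfl⟩, fun S κ hκ hS h0 => ?_⟩
  haveI := hκ
  by_contra hlt
  have hS0 : DecSh.mult k X L S = 0 := le_antisymm (by omega) (mult_nonneg' k hL hdim hS)
  obtain ⟨K, g, hg, hK, hKe, hKm⟩ := exists_preimage k hL hdim hH hM f hS κ
  have := hmax _ ⟨K, g, hg, hK, by omega, rfl⟩
  have := euler_pos_of_mult_zero k hL hdim hS h0 hS0
  omega

include hL hdim in
/-- Sections of very negative twists vanish. -/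
theorem h0_tw_eq_zero {M : X.Modules} (hM : Coh.IsCoh M) (hp : Pure1 k L M) {C j : ℤ} (hs : SubLE k M C)
    (hj : ∀ a : ℤ, 1 ≤ a → a ≤ DecSh.mult k X L M → j * a < -(hh k 1 (Coh.structureModule X) : ℤ) - C) :
    hh k 0 (DecBd.tw hL.1 M j) = 0 := by
  haveI := Groth.L21.RR.isNoetherian_of_proper (X := X) k
  refine hh_of_subsingleton k (not_nontrivial_iff_subsingleton.1 fun hnt => ?_)
  obtain ⟨φ, hφ⟩ := Groth.L21.RR.exists_hom_ne_zero (L := DecBd.tw hL.1 M j)
  have hO : Coh.IsCoh (Coh.structureModule X) := Groth.L16.CohClosedPush.isCoh_structure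
  have hT := isCoh_tw hL.1 hM j
  have hS : Coh.IsCoh (Abelian.image φ) := isCoh_kernel' k hT (isCoh_cokernel' k hO hT φ) _
  have hS0 : ¬ IsZero (Abelian.image φ) := fun hz => hφ (by
    rw [← Abelian.image.fac φ, hz.eq_of_src (Abelian.image.ι φ) 0, Limits.comp_zero])
  have h1 : -(hh k 1 (Coh.structureModule X) : ℤ) ≤ Curv2.euler k X (Abelian.image φ) := by
    have a := euler_eq' k hdim (Abelian.image φ)
    have b := h1_le_of_epi k hdim hO (Abelian.factorThruImage φ)
    omega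
  obtain ⟨f, hf⟩ := exists_mono_tw hL.1 (Abelian.image.ι φ) (-j)
  obtain ⟨e⟩ := nonempty_tw_tw hL.1 M j (-j)
  obtain ⟨e0⟩ := nonempty_tw_zero hL.1 M
  let g := f ≫ (e ≪≫ eqToIso (by rw [add_neg_cancel]) ≪≫ e0).hom
  have hgS : ¬ IsZero (DecBd.tw hL.1 (Abelian.image φ) (-j)) := fun hz => hS0 (isZero_of_tw hL.1 _ hz)
  have hc := hs _ g (by infer_instance) (isCoh_tw hL.1 hS _) hgS
  have hpos := hp _ g (by infer_instance) (isCoh_tw hL.1 hS _) hgS
  haveI : Mono g := by infer_instance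
  have hle := mult_le' k hL hdim g (isCoh_tw hL.1 hS _) hM
  rw [euler_tw hL.1 k hdim hS] at hc
  rw [mult_tw hL.1 k hdim hS] at hpos hle
  have := hj _ hpos hle
  linarith

end Groth.L11.DecBd
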