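import Groth.Agent.L13.DecBound.Basic
import Groth.Agent.L21.RR.Sections
import Groth.Agent.L08.Cube.Inverse
import Groth.Agent.L00.TensorMod

/-!
# Integer twists on a proper scheme of dimension at most one
-/

set_option autoImplicit false
set_option backward.isDefEq.respectTransparency false
set_option linter.style.haveILetI false
set_option linter.unusedSectionVars false

universe u

open CategoryTheory CategoryTheory.Limits AlgebraicGeometry Polynomial

noncomputable section

namespace Groth.L11.DecBd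

open Groth.L00.Tensor (tensorIso tensorAssoc tensorComm tensorUnitRight tensorUnitLeft tensorRightF tensorMiddleFour
  tensorPowAdd tensorPowTensor tensorPowUnit tensorPowIso)
open Groth.L18.Ample (isInvertible_tensorPow)

variable {X : Scheme.{u}}

/-- An inverse of an invertible module. -/
def inv' {L : X.Modules} (hL : PicF.IsInvertible L) : X.Modules :=
  (Groth.L08.Cube.exists_inverse hL).choose

theorem isInvertible_inv' {L : X.Modules} (hL : PicF.IsInvertible L) : PicF.IsInvertible (inv' hL) :=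
  (Groth.L08.Cube.exists_inverse hL).choose_spec.1

theorem nonempty_inv' {L : X.Modules} (hL : PicF.IsInvertible L) :
    Nonempty (CohB1.tensorMod L (inv' hL) ≅ Coh.structureModule X) :=
  (Groth.L08.Cube.exists_inverse hL).choose_spec.2

/-- `L^p ⊗ L'^q`. -/
def pq {L : X.Modules} (hL : PicF.IsInvertible L) (p q : ℕ) : X.Modules :=
  CohB1.tensorMod (CohB1.tensorPow L p) (CohB1.tensorPow (inv' hL) q)

theorem nonempty_pq_add {L : X.Modules} (hL : PicF.IsInvertible L) (p q s : ℕ) :
    Nonempty (pq hL (p + s) (q + s) ≅ pq hL p q) := by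
  obtain ⟨e⟩ := nonempty_inv' hL
  exact ⟨tensorIso (tensorPowAdd L p s).symm (tensorPowAdd (inv' hL) q s).symm ≪≫ tensorMiddleFour _ _ _ _ ≪≫
    tensorIso (Iso.refl _) ((tensorPowTensor L (inv' hL) s).symm ≪≫ tensorPowIso e s ≪≫ tensorPowUnit X s) ≪≫
    tensorUnitRight _⟩

theorem nonempty_pq_eq {L : X.Modules} (hL : PicF.IsInvertible L) {p q p' q' : ℕ} (h : p + q' = p' + q) :
    Nonempty (pq hL p q ≅ pq hL p' q') := by
  obtain ⟨a⟩ := nonempty_pq_add hL p q q'
  obtain ⟨b⟩ := nonempty_pq_add hL p' q' q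
  exact ⟨a.symm ≪≫ eqToIso (by rw [h, add_comm q q']) ≪≫ b⟩

/-- The integer twist `M(j)`. -/
def tw {L : X.Modules} (hL : PicF.IsInvertible L) (M : X.Modules) (j : ℤ) : X.Modules :=
  CohB1.tensorMod M (pq hL j.toNat (-j).toNat)

variable {L : X.Modules} (hL : PicF.IsInvertible L)

theorem isInvertible_pq (p q : ℕ) : PicF.IsInvertible (pq hL p q) :=
  Groth.L18.GenLoc.isInvertible_tensor (isInvertible_tensorPow hL p) (isInvertible_tensorPow (isInvertible_inv' hL) q)

theorem nonempty_twist_nat (M : X.Modules) (m : ℕ) :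
    Nonempty (tw hL M (m : ℤ) ≅ ShStab.twist X L M m) :=
  ⟨tensorIso (Iso.refl M) (eqToIso (by rw [Int.toNat_natCast, show (-(m : ℤ)).toNat = 0 by omega]; rfl) ≪≫
    tensorUnitRight (CohB1.tensorPow L m))⟩

theorem nonempty_tw_zero (M : X.Modules) : Nonempty (tw hL M 0 ≅ M) :=
  ⟨tensorIso (Iso.refl M) (tensorUnitRight _) ≪≫ tensorUnitRight M⟩

theorem nonempty_tw_one (M : X.Modules) : Nonempty (tw hL M 1 ≅ CohB1.tensorMod M L) :=
  ⟨tensorIso (Iso.refl M) (eqToIso (by rfl) ≪≫ tensorUnitRight _ ≪≫ tensorUnitLeft L)⟩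

theorem nonempty_tw_tw (M : X.Modules) (a b : ℤ) : Nonempty (tw hL (tw hL M a) b ≅ tw hL M (a + b)) := by
  obtain ⟨e⟩ := nonempty_pq_eq hL (p := a.toNat + b.toNat) (q := (-a).toNat + (-b).toNat) (p' := (a + b).toNat)
    (q' := (-(a + b)).toNat) (by omega)
  exact ⟨tensorAssoc _ _ _ ≪≫ tensorIso (Iso.refl M) (tensorMiddleFour _ _ _ _ ≪≫
    tensorIso (tensorPowAdd L _ _) (tensorPowAdd (inv' hL) _ _) ≪≫ e)⟩

theorem nonempty_tw_iso {M N : X.Modules} (e : M ≅ N) (j : ℤ) : Nonempty (tw hL M j ≅ tw hL N j) :=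
  ⟨tensorIso e (Iso.refl _)⟩

theorem exists_mono_tw {G M : X.Modules} (ι : G ⟶ M) [Mono ι] (j : ℤ) :
    ∃ f : tw hL G j ⟶ tw hL M j, Mono f :=
  ⟨(tensorRightF (pq hL j.toNat (-j).toNat)).map ι,
    (Groth.L03.Euler.shortExact_tensor (isInvertible_pq hL _ _)
      (S := ShortComplex.mk ι (cokernel.π ι) (cokernel.condition ι)) { exact := ShortComplex.exact_cokernel ι }).mono_f⟩

theorem isCoh_tw [IsLocallyNoetherian X] {M : X.Modules} (hM : Coh.IsCoh M) (j : ℤ) : Coh.IsCoh (tw hL M j) :=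
  Groth.L03.Euler.isCoh_tensor (isInvertible_pq hL _ _) hM

theorem isZero_tw {M : X.Modules} (h : IsZero M) (j : ℤ) : IsZero (tw hL M j) :=
  (tensorRightF (pq hL j.toNat (-j).toNat)).map_isZero h

theorem isZero_of_tw {M : X.Modules} (j : ℤ) (h : IsZero (tw hL M j)) : IsZero M := by
  obtain ⟨e⟩ := nonempty_tw_tw hL M j (-j)
  obtain ⟨e0⟩ := nonempty_tw_zero hL M
  exact (isZero_tw hL h (-j)).of_iso (e0.symm ≪≫ eqToIso (by rw [add_neg_cancel]) ≪≫ e.symm)

variable (k : Type u) [Field k] [X.Over (Spec (CommRingCat.of k))] [IsProper (X ↘ Spec (CommRingCat.of k))]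

/-- `χ(M(j))`. -/
def chi (M : X.Modules) (j : ℤ) : ℤ := Curv2.euler k X (tw hL M j)

theorem euler_iso' {M N : X.Modules} (e : M ≅ N) : Curv2.euler k X M = Curv2.euler k X N :=
  Groth.L21.RR.euler_congr k e

theorem mult_iso {M N : X.Modules} (e : M ≅ N) : DecSh.mult k X L M = DecSh.mult k X L N := by
  rw [DecSh.mult, DecSh.mult, euler_iso' k e, euler_iso' k (tensorIso e (Iso.refl L))]

include hL in
/-- Euler characteristics of the twists are linear. -/
theorem euler_tw (hdim : topologicalKrullDim X ≤ 1) {M : X.Modules} (hM : Coh.IsCoh M) (j : ℤ) :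
    Curv2.euler k X (tw hL M j) = Curv2.euler k X M + j * DecSh.mult k X L M := by
  haveI := Groth.L21.RR.isNoetherian_of_proper (X := X) k
  let f : ℤ → ℤ := fun t => chi hL k M t
  have hstep : ∀ a : ℤ, f (a + 2) - f (a + 1) = f (a + 1) - f a := by
    intro a
    have hc := isCoh_tw hL hM a
    obtain ⟨P, hdeg, hP⟩ := Groth.L03.Euler.exists_isHilbPoly (k := k) hL hc (d := 1)
      ((Topology.IsInducing.subtypeVal.topologicalKrullDim_le).trans hdim)
    have hv : ∀ m : ℕ, (f (a + m) : ℚ) = P.eval (m : ℚ) := fun m => by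
      obtain ⟨e1⟩ := nonempty_tw_tw hL M a m
      obtain ⟨e2⟩ := nonempty_twist_nat hL (tw hL M a) m
      rw [← hP m]
      exact_mod_cast euler_iso' k (e1.symm ≪≫ e2)
    obtain ⟨s, t, rfl⟩ := Polynomial.exists_eq_X_add_C_of_natDegree_le_one hdeg
    have h0 := hv 0
    have h1 := hv 1
    have h2 := hv 2
    simp only [eval_add, eval_mul, eval_C, eval_X, Nat.cast_zero, Nat.cast_one, Nat.cast_ofNat, add_zero] at h0 h1 h2
    exact_mod_cast (show (f (a + 2) : ℚ) - f (a + 1) = f (a + 1) - f a by rw [h0, h1, h2]; ring)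
  have hconst : ∀ a : ℤ, f (a + 1) - f a = f 1 - f 0 := by
    intro a
    induction a using Int.induction_on with
    | zero => simp
    | succ i hi =>
      have := hstep (i : ℤ)
      rw [show (i : ℤ) + 2 = (i : ℤ) + 1 + 1 by ring] at this
      linarith
    | pred i hi =>
      rw [← hi]
      have := hstep (-(i : ℤ) - 1)
      rw [show -(i : ℤ) - 1 + 2 = -(i : ℤ) + 1 by ring, show -(i : ℤ) - 1 + 1 = -(i : ℤ) by ring] at this
      rw [show -(i : ℤ) - 1 + 1 = -(i : ℤ) by ring, this]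
  have h0 : f 0 = Curv2.euler k X M := by
    obtain ⟨e⟩ := nonempty_tw_zero hL M
    exact euler_iso' k e
  have h1 : f 1 - f 0 = DecSh.mult k X L M := by
    obtain ⟨e⟩ := nonempty_tw_one hL M
    rw [h0, DecSh.mult]
    exact congrArg (· - _) (euler_iso' k e)
  show f j = _
  induction j using Int.induction_on with
  | zero => simp [h0]
  | succ i hi =>
    have := hconst i
    linarith
  | pred i hi =>
    have := hconst (-(i : ℤ) - 1)
    rw [show -(i : ℤ) - 1 + 1 = -(i : ℤ) by ring] at this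
    linarith

include hL in
theorem mult_tw (hdim : topologicalKrullDim X ≤ 1) {M : X.Modules} (hM : Coh.IsCoh M) (j : ℤ) :
    DecSh.mult k X L (tw hL M j) = DecSh.mult k X L M := by
  obtain ⟨e⟩ := nonempty_tw_one hL (tw hL M j)
  obtain ⟨e'⟩ := nonempty_tw_tw hL M j 1
  rw [DecSh.mult, euler_iso' k (e.symm ≪≫ e'), euler_tw hL k hdim hM, euler_tw hL k hdim hM]
  ring

end Groth.L11.DecBd
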