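import Groth.Agent.L11.DecBd.Step
import Groth.Agent.L11.NumOrth.TauProj
import Groth.Agent.L11.Bdd.Basic
import Groth.Agent.L22.Inter.Fga

/-!
# Uniform vanishing and boundedness in dimension one
-/

set_option autoImplicit false
set_option backward.isDefEq.respectTransparency false
set_option linter.style.haveILetI false
set_option linter.unusedSectionVars false

universe u

open CategoryTheory CategoryTheory.Limits AlgebraicGeometry TopologicalSpace

noncomputable section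

namespace Groth.L11.DecBd

attribute [local irreducible] Curv2.euler DecSh.mult

variable (k : Type u) [Field k] [IsAlgClosed k] {X : Scheme.{u}} [X.Over (Spec (CommRingCat.of k))]
  [IsProper (X ↘ Spec (CommRingCat.of k))] {L : X.Modules} (hL : CohB1.IsAmple L)
  (hdim : topologicalKrullDim X ≤ 1)

theorem exists_emb (hL : CohB1.IsAmple L) : ∃ (c n : ℕ) (i : X ⟶ CohB1.ProjSpace n k), 0 < c ∧ IsClosedImmersion i ∧
    i ≫ CohB1.ProjSpace.toSpec n k = (X ↘ Spec (CommRingCat.of k)) ∧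
    Nonempty ((Scheme.Modules.pullback i).obj (Twist.twistProjSpace n k 1) ≅ CohB1.tensorPow L c) := by
  obtain ⟨m₀, h⟩ := Groth.L03.SurfAdj.exists_embedding k hL
  obtain ⟨n, i, h1, h2, h3⟩ := h (m₀ + 1) (Nat.le_succ _)
  exact ⟨m₀ + 1, n, i, Nat.succ_pos _, h1, h2, h3⟩

include hL hdim in
/-- The step bound for sections, with its step `c`. -/
theorem exists_step : ∃ c : ℕ, 0 < c ∧ ∀ (M : X.Modules), Coh.IsCoh M → ∀ (j₀ : ℤ),
    (∀ j : ℤ, j ≤ j₀ → hh k 0 (tw hL.1 M j) = 0) → ∀ m : ℤ,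
      (hh k 0 (tw hL.1 M m) : ℤ) ≤ DecSh.mult k X L M * (max (m - j₀) 0 + c) := by
  obtain ⟨c, n, i, hc, hi', hi, ⟨e⟩⟩ := exists_emb k hL
  haveI := hi'
  refine ⟨c, hc, fun M hM j₀ h0 m => ?_⟩
  have hα := mult_nonneg' k hL hdim hM
  have key : ∀ (t : ℕ) (m : ℤ), m ≤ j₀ + (t : ℤ) * c →
      (hh k 0 (tw hL.1 M m) : ℤ) ≤ (t : ℤ) * c * DecSh.mult k X L M := by
    intro t
    induction t with
    | zero =>
      intro m hm
      rw [h0 m (by simpa using hm)]
      simp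
    | succ t ih =>
      intro m hm
      have h1 := h0_tw_succ_le k i hi hL hdim e hM (m - c)
      rw [show m - (c : ℤ) + c = m by ring] at h1
      have h2 := ih (m - c) (by push_cast at hm; linarith)
      push_cast
      nlinarith
  obtain ⟨d, hd⟩ : ∃ d : ℕ, max (m - j₀) 0 = (d : ℤ) := ⟨(m - j₀).toNat, by omega⟩
  have h1 := key (d / c + 1) m (by
    have := Nat.lt_div_mul_add (a := d) hc
    push_cast
    have : (d : ℤ) < (d / c : ℕ) * c + c := by exact_mod_cast this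
    have hle := le_max_left (m - j₀) 0
    push_cast at this
    linarith)
  refine h1.trans ?_
  rw [hd, mul_comm]
  refine mul_le_mul_of_nonneg_left ?_ hα
  have := Nat.div_mul_le_self d c
  have : ((d / c : ℕ) : ℤ) * c ≤ d := by exact_mod_cast this
  push_cast at this ⊢
  linarith

include hL hdim in
/-- A uniform bound on sections of twists. -/
theorem exists_h0_bound (C : ℤ) : ∃ N : ℕ, ∀ (M : X.Modules), Coh.IsCoh M → Pure1 k L M → SubLE k M C →
    ∀ m : ℕ, (hh k 0 (tw hL.1 M m) : ℤ) ≤ DecSh.mult k X L M * ((m : ℤ) + N) := by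
  obtain ⟨c, hc, hstep⟩ := exists_step k hL hdim
  let V : ℤ := (hh k 1 (Coh.structureModule X) : ℤ) + |C| + 1
  have hV : 0 ≤ V := by positivity
  refine ⟨(V + c).toNat, fun M hM hp hs m => ?_⟩
  have h := hstep M hM (-V) (fun j hj => h0_tw_eq_zero k hL hdim hM hp hs fun a ha _ => by
    have h1 : j * a ≤ j * 1 := mul_le_mul_of_nonpos_left ha (by omega)
    have h2 := le_abs_self C
    simp only [V] at hj
    linarith) (m : ℤ)
  rw [max_eq_left (by omega)] at h
  refine h.trans (le_of_eq ?_)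
  rw [Int.toNat_of_nonneg (by omega)]
  ring

/-- The uniform hypotheses on a family. -/
structure Mem (L : X.Modules) (a : ℤ) (C E : ℤ) (M : X.Modules) : Prop where
  coh : Coh.IsCoh M
  pure : Pure1 k L M
  sub : SubLE k M C
  mult : DecSh.mult k X L M ≤ a
  euler : -E ≤ Curv2.euler k X M

include hL hdim in
theorem exists_h1_bound (a C E : ℤ) (r : ℕ) :
    ∃ B : ℕ, ∀ M, Mem k L a C E M → hh k 1 (tw hL.1 M r) ≤ B := by
  obtain ⟨N, hN⟩ := exists_h0_bound k hL hdim C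
  refine ⟨(max a 0 * ((r : ℤ) + N) + E).toNat, fun M hM => ?_⟩
  have h1 := hN M hM.coh hM.pure hM.sub r
  have h2 := euler_eq' k hdim (tw hL.1 M r)
  rw [euler_tw hL.1 k hdim hM.coh] at h2
  have h3 := mult_nonneg' k hL hdim hM.coh
  have h4 := hM.euler
  have h5 : DecSh.mult k X L M * ((r : ℤ) + N) ≤ max a 0 * ((r : ℤ) + N) :=
    mul_le_mul_of_nonneg_right (hM.mult.trans (le_max_left _ _)) (by positivity)
  have h6 : 0 ≤ (r : ℤ) * DecSh.mult k X L M := mul_nonneg (Int.natCast_nonneg r) h3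
  omega

include hL hdim in
/-- Uniform vanishing and global generation. -/
theorem exists_vanish_gg (a C E : ℤ) : ∃ n₀ : ℕ, ∀ m : ℕ, n₀ ≤ m → ∀ M, Mem k L a C E M →
    Subsingleton (Coh.HH X (tw hL.1 M m) 1) ∧ Curv2.IsGloballyGenerated (tw hL.1 M m) := by
  classical
  obtain ⟨c, n, i, hc, hi', hi, ⟨e⟩⟩ := exists_emb k hL
  haveI := hi'
  choose B hB using fun r : ℕ => exists_h1_bound k hL hdim a C E r
  refine ⟨c * ((Finset.range c).sup B + 2), fun m hm M hM => ?_⟩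
  haveI := Groth.L21.RR.isNoetherian_of_proper (X := X) k
  have hr : m % c < c := Nat.mod_lt m hc
  have h := vanish_gg_of_h1_le k i hi hL hdim e (isCoh_tw hL.1 hM.coh ((m % c : ℕ) : ℤ)) (hB _ M hM) (m / c) (by
    have h1 := Finset.le_sup (f := B) (Finset.mem_range.2 hr)
    have h2 : (Finset.range c).sup B + 2 ≤ m / c := (Nat.le_div_iff_mul_le hc).2 (by rw [mul_comm]; exact hm)
    omega)
  obtain ⟨f⟩ := nonempty_tw_tw hL.1 M ((m % c : ℕ) : ℤ) ((c * (m / c) : ℕ) : ℤ)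
  let g : tw hL.1 (tw hL.1 M ((m % c : ℕ) : ℤ)) ((c * (m / c) : ℕ) : ℤ) ≅ tw hL.1 M (m : ℤ) :=
    f ≪≫ eqToIso (by rw [← Nat.cast_add, Nat.mod_add_div])
  exact ⟨(Groth.L22.Reg.subsingleton_congr_iso g 1).1 h.1, Groth.L18.Ample.isGloballyGenerated_of_iso g h.2⟩

include hL hdim in
/-- The family is bounded. -/
theorem isBounded_family (a C E : ℤ) (P : X.Modules → Prop)
    (hP : ∀ M, P M → Mem k L a C E M ∧ Curv2.euler k X M ≤ E) : Pic13.IsBounded k X P := by
  classical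
  obtain ⟨c, n, i, hc, hi', hi, ⟨e⟩⟩ := exists_emb k hL
  haveI := hi'
  haveI := Groth.L21.RR.isNoetherian_of_proper (X := X) k
  obtain ⟨B, hB⟩ := exists_h1_bound k hL hdim a C E 0
  let φ : ℤ × ℤ → Polynomial ℚ := fun p => Polynomial.C ((c * p.2 : ℤ) : ℚ) * Polynomial.X + Polynomial.C (p.1 : ℚ)
  let s : Finset (ℤ × ℤ) := Finset.Icc (-E) E ×ˢ Finset.Icc 0 a
  refine (Groth.L11.Bdd.Bd.iUnion (ι := {p : ℤ × ℤ // p ∈ s}) (fun p =>
    Groth.L11.Bdd.Bd.of_isBounded (Groth.L11.Bounded.isBounded_mRegular i hi ((B : ℤ) + 1) (φ p.1))) fun M hM => ?_).isBounded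
  obtain ⟨hm, hE⟩ := hP M hM
  refine ⟨⟨(Curv2.euler k X M, DecSh.mult k X L M),
    Finset.mem_product.2 ⟨Finset.mem_Icc.2 ⟨hm.euler, hE⟩, Finset.mem_Icc.2 ⟨mult_nonneg' k hL hdim hm.coh, hm.mult⟩⟩⟩,
    hm.coh, ?_, fun d => ?_⟩
  · refine regular_of_h1_le k i hi hdim hm.coh ?_
    obtain ⟨e0⟩ := nonempty_tw_zero hL.1 M
    rw [← hh_iso k e0]
    exact_mod_cast hB M hm
  · rw [Groth.L22.Inter.eulerCharLE_eq k (Groth.L11.NumOrth.dim_le_ambient k i)]
    obtain ⟨ψ, hψ⟩ := Groth.L11.NumOrth.exists_poly_twist k i hm.coh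
    suffices hEq : ψ = φ (Curv2.euler k X M, DecSh.mult k X L M) by rw [← hEq]; exact hψ d
    refine Groth.L03.Euler.eq_of_eventually_eval_eq 0 fun q _ => ?_
    obtain ⟨f⟩ := nonempty_twistOn_tw k i hL e M q
    rw [← Int.cast_natCast (R := ℚ) q, ← hψ (q : ℤ), euler_iso' k f, euler_tw hL.1 k hdim hm.coh]
    simp only [φ, Polynomial.eval_add, Polynomial.eval_mul, Polynomial.eval_C, Polynomial.eval_X]
    push_cast
    ring

end Groth.L11.DecBd
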